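import Cfsg.Agent.EightType55.Basic
import Cfsg.Agent.Transfer.Frobenius

/-!
An elementary abelian Sylow 2-subgroup of rank at least three whose normaliser acts without fixed
points, with two classes of involutions: the subgroup is normal modulo the odd core.
-/

set_option autoImplicit false
set_option linter.style.haveILetI false
set_option linter.unusedSectionVars false

universe u

namespace CfsgLib.EightType55

open Cfsg
open CfsgLib.StronglyEmbedded (orderOf_two_iff)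

variable {H : Type u} [Group H] [Finite H]

local instance : Fact (Nat.Prime 2) := ⟨Nat.prime_two⟩

/-- A subgroup containing a Sylow 2-subgroup has it as a maximal 2-subgroup. -/
theorem isSyl_of_sylow (T : Sylow 2 H) {L : Subgroup H} (hTL : (T : Subgroup H) ≤ L) :
    IsSyl L (T : Subgroup H) :=
  ⟨hTL, T.2, fun _ _ hQ2 hTQ => (T.is_maximal' hQ2 hTQ).le⟩

theorem good_of_complement (T : Sylow 2 H) {C : Subgroup H} (hTC : (T : Subgroup H) ≤ C)
    (hcom : ∀ a ∈ (T : Subgroup H), ∀ b ∈ (T : Subgroup H), a * b = b * a)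
    (hfix : ∀ n ∈ C, n ∈ Subgroup.normalizer ((T : Subgroup H) : Set H) →
      n ∈ Subgroup.centralizer ((T : Subgroup H) : Set H)) :
    ∀ c ∈ C, ∃ r ∈ coreOf C, ∃ s ∈ (T : Subgroup H), c = r * s := by
  set TC : Sylow 2 C := T.subtype hTC
  have hmem : ∀ x : C, x ∈ (TC : Subgroup C) ↔ (x : H) ∈ (T : Subgroup H) := fun x => Iff.rfl
  have hb : Subgroup.normalizer ((TC : Subgroup C) : Set C) ≤
      Subgroup.centralizer ((TC : Subgroup C) : Set C) := by
    intro x hx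
    rw [Subgroup.mem_centralizer_iff]
    intro y hy
    have hxN : (x : H) ∈ Subgroup.normalizer ((T : Subgroup H) : Set H) :=
      ExtremelyClosed.mem_normalizer_of_conj_mem fun z hz =>
        (hmem _).mp ((Subgroup.mem_normalizer_iff.mp hx ⟨z, hTC hz⟩).mp hz)
    exact Subtype.ext (Subgroup.mem_centralizer_iff.mp (hfix x x.2 hxN) (y : H) hy)
  obtain ⟨N, hN, hcompl⟩ := Transfer.exists_isComplement'
    (Transfer.hasNormalPComplement_of_normalizer_le_centralizer TC hb) TC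
  have hN2 : ¬ 2 ∣ Nat.card N := by
    rw [← Subgroup.IsComplement'.index_eq_card hcompl]
    exact TC.not_dvd_index
  intro c hc
  have hcN : (⟨c, hc⟩ : C) ∈ ((N ⊔ (TC : Subgroup C) : Subgroup C) : Set C) := by
    rw [hcompl.sup_eq_top]; trivial
  haveI := hN
  rw [Subgroup.normal_mul] at hcN
  obtain ⟨r, hr, s, hs, he⟩ := hcN
  exact ⟨r, ⟨r, Constrained.le_pPrimeCore_of_not_dvd hN hN2 hr, rfl⟩, s, hs,
    (congrArg Subtype.val he).symm⟩

/-- The theorem on the abelian Sylow 2-subgroup. -/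
theorem decomp_of_fpf (T : Sylow 2 H) (hT : IsElementaryAbelian 2 (T : Subgroup H))
    (h8 : 2 ^ 3 ≤ Nat.card (T : Subgroup H))
    (hfpf : ∀ n ∈ Subgroup.normalizer ((T : Subgroup H) : Set H), ∀ t ∈ (T : Subgroup H), t ≠ 1 →
      n * t = t * n → n ∈ Subgroup.centralizer ((T : Subgroup H) : Set H))
    {x y : H} (hxT : x ∈ (T : Subgroup H)) (hyT : y ∈ (T : Subgroup H)) (hx : x ≠ 1) (hy : y ≠ 1)
    (hnc : ¬ IsConj x y) :
    ∀ h : H, ∃ r ∈ pPrimeCore 2 H, ∃ n ∈ Subgroup.normalizer ((T : Subgroup H) : Set H),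
      h = r * n := by
  set S := (T : Subgroup H) with hS
  have h2 : ∀ t ∈ S, t * t = 1 := fun t ht => by rw [← sq]; exact hT.2 t ht
  have hcom : ∀ a ∈ S, ∀ b ∈ S, a * b = b * a := fun a ha b hb =>
    congrArg Subtype.val (hT.1.1.comm (⟨a, ha⟩ : S) ⟨b, hb⟩)
  have hSle : ∀ t ∈ S, S ≤ cen t := fun t ht s hs =>
    Subgroup.mem_centralizer_singleton_iff.mpr (hcom s hs t ht)
  have hdec : ∀ t ∈ S, t ≠ 1 → ∀ c ∈ cen t, ∃ r ∈ coreOf (cen t), ∃ s ∈ S, c = r * s :=
    fun t ht ht1 => good_of_complement T (hSle t ht) hcom fun n hn hnN =>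
      hfpf n hnN t ht ht1 (Subgroup.mem_centralizer_singleton_iff.mp hn)
  have hgood : ∀ t ∈ S, t ≠ 1 → Good S (cen t) := by
    intro t ht ht1 c hc a ha
    obtain ⟨r, hr, s, hs, rfl⟩ := hdec t ht ht1 c hc
    rw [show r * s * a * (r * s)⁻¹ = r * (s * a * s⁻¹) * r⁻¹ by group,
      mul_inv_eq_iff_eq_mul.mpr (hcom s hs a ha)]
    exact mul_mem (mul_mem (Subgroup.mem_sup_right hr) (Subgroup.mem_sup_left ha))
      (inv_mem (Subgroup.mem_sup_right hr))
  have hbal : ∀ a ∈ S, a ≠ 1 → ∀ b ∈ S, b ≠ 1 → coreOf (cen a) ⊓ cen b ≤ coreOf (cen b) := by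
    intro a _ _ b hb hb1 w hw
    obtain ⟨r, hr, s, hs, he⟩ := hdec b hb hb1 w hw.2
    have hs' : s ∈ coreOf (cen b) := by
      refine mem_coreOf_of_congr (k := 1) (hSle b hb hs) ?_ (odd_orderOf (odd_coreOf _) hw.1) ?_
      · rw [pow_one]; exact orderOf_dvd_of_pow_eq_one (by rw [sq, h2 s hs])
      · rwa [he, mul_inv_cancel_right]
    exact he ▸ mul_mem hr hs'
  obtain ⟨W, M, hW, hWM, hNM, hCM, hMdec⟩ := exists_cover hT h8 hbal hgood
  have hSM : S ≤ M := Subgroup.le_normalizer.trans hNM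
  have hsyl := isSyl_of_sylow T hSM
  have hjC : ∀ j ∈ M, orderOf j = 2 → Subgroup.centralizer ({j} : Set H) ≤ M := by
    intro j hj hj2 c hc
    obtain ⟨m, hm, hmj⟩ := hsyl.exists_conj_mem hj hj2
    have hne : m * j * m⁻¹ ≠ 1 := fun h => (orderOf_two_iff.mp hj2).2 (conj_eq_one_iff.mp h)
    have h1 : m * c * m⁻¹ ∈ cen (m * j * m⁻¹) := by
      rw [Subgroup.mem_centralizer_singleton_iff,
        show m * c * m⁻¹ * (m * j * m⁻¹) = m * (c * j) * m⁻¹ by group,
        Subgroup.mem_centralizer_singleton_iff.mp hc]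
      group
    simpa [mul_assoc] using mul_mem (mul_mem (inv_mem hm) (hCM _ hmj hne h1)) hm
  have htop : M = ⊤ := by
    refine eq_top_of_fusion (orderOf_two_iff.mpr ⟨h2 x hxT, hx⟩)
      (orderOf_two_iff.mpr ⟨h2 y hyT, hy⟩) (hSM hxT) hnc hjC fun g hg => ?_
    obtain ⟨m, hm, hmS⟩ := hsyl.exists_conj_mem hg
      ((StronglyEmbedded.orderOf_conj g y).trans (orderOf_two_iff.mpr ⟨h2 y hyT, hy⟩))
    -- Burnside fusion in the abelian Sylow subgroup
    have hsylC : IsSyl (cen (m * (g * y * g⁻¹) * m⁻¹)) S := isSyl_of_sylow T (hSle _ hmS)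
    obtain ⟨l, hl, hlb⟩ := hsylC.exists_conj (B := S.map (MulAut.conj (m * g)).toMonoidHom) (by
      rintro _ ⟨s, hs, rfl⟩
      rw [Subgroup.mem_centralizer_singleton_iff]
      show m * g * s * (m * g)⁻¹ * (m * (g * y * g⁻¹) * m⁻¹) =
        m * (g * y * g⁻¹) * m⁻¹ * (m * g * s * (m * g)⁻¹)
      rw [show m * g * s * (m * g)⁻¹ * (m * (g * y * g⁻¹) * m⁻¹) =
        m * g * (s * y) * (m * g)⁻¹ by group, hcom s hs y hyT]
      group) (isPGroup_map_conj T.2 _)
    have hn : l * (m * g) ∈ Subgroup.normalizer (S : Set H) :=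
      ExtremelyClosed.mem_normalizer_of_conj_mem fun s hs => by
        simpa [mul_assoc] using hlb _ ⟨s, hs, rfl⟩
    have hlM : l ∈ M := hCM _ hmS
      (fun h => hy (by simpa using conj_eq_one_iff.mp (conj_eq_one_iff.mp h))) hl
    simpa [mul_assoc] using mul_mem (inv_mem hm) (mul_mem (inv_mem hlM) (hNM hn))
  intro h
  obtain ⟨w, hw, n, hn, he⟩ := hMdec h (htop ▸ Subgroup.mem_top h)
  have hWn : W.Normal := ⟨fun w' hw' g => hWM g (htop ▸ Subgroup.mem_top g) w' hw'⟩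
  exact ⟨w, Constrained.le_pPrimeCore_of_not_dvd hWn (not_two_dvd_of_odd hW) hw, n, hn, he⟩

end CfsgLib.EightType55
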