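import Cfsg.Agent.Eq.Def_Solvable
import Cfsg.Agent.Eq.Def_Local
import Cfsg.Agent.ExtremelyClosed.Local
import Cfsg.Agent.IsolatedPoint.Central
import Cfsg.Agent.StronglyEmbedded.Basic
import Cfsg.Agent.Transfer.NormalPComplement
import Cfsg.Agent.SolvSignalizer.TwoPrime.TwoGroup
import Cfsg.Agent.S0205

/-!
Two-subgroups that are normal modulo the largest normal subgroup of odd order, and the closure of
the signalizer functor of the cores of centralisers.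
-/

set_option autoImplicit false
set_option linter.style.haveILetI false
set_option linter.unusedSectionVars false

universe u

namespace CfsgLib.EightType55

open Cfsg
open CfsgLib.StronglyEmbedded (orderOf_two_iff)

variable {G : Type u} [Group G] [Finite G]

local instance : Fact (Nat.Prime 2) := ⟨Nat.prime_two⟩

/-- The largest normal subgroup of odd order of `H`, inside `G`. -/
def coreOf (H : Subgroup G) : Subgroup G := (pPrimeCore 2 ↥H).map H.subtype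

theorem coreOf_le (H : Subgroup G) : coreOf H ≤ H := Subgroup.map_subtype_le _

theorem odd_coreOf (H : Subgroup G) : Odd (Nat.card (coreOf H)) := by
  rw [coreOf, Subgroup.card_map_of_injective Subtype.val_injective]
  exact ExtremelyClosed.odd_of_not_two_dvd Constrained.pPrimeCore_not_dvd

theorem conj_mem_coreOf {H : Subgroup G} {h r : G} (hh : h ∈ H) (hr : r ∈ coreOf H) :
    h * r * h⁻¹ ∈ coreOf H := by
  obtain ⟨r', hr', rfl⟩ := hr
  exact ⟨⟨h, hh⟩ * r' * ⟨h, hh⟩⁻¹, (pPrimeCore_normal 2 ↥H).conj_mem r' hr' _, rfl⟩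

theorem not_two_dvd_of_odd {n : ℕ} (h : Odd n) : ¬ 2 ∣ n := by
  rintro ⟨k, rfl⟩
  exact Nat.not_even_iff_odd.mpr h (even_two_mul k)

theorem le_coreOf {H R : Subgroup G} (hRH : R ≤ H) (hn : ∀ h ∈ H, ∀ r ∈ R, h * r * h⁻¹ ∈ R)
    (ho : Odd (Nat.card R)) : R ≤ coreOf H := by
  intro r hr
  refine ⟨⟨r, hRH hr⟩, Constrained.le_pPrimeCore_of_not_dvd (N := R.subgroupOf H) ?_ ?_ hr, rfl⟩
  · exact ⟨fun x hx g => hn g g.2 x hx⟩
  · rw [Nat.card_congr (Subgroup.subgroupOfEquivOfLe hRH).toEquiv]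
    exact not_two_dvd_of_odd ho

theorem odd_orderOf {R : Subgroup G} (hR : Odd (Nat.card R)) {x : G} (hx : x ∈ R) :
    Odd (orderOf x) := ExtremelyClosed.orderOf_odd hR hx

theorem eq_one_of_two_pow {x : G} {k : ℕ} (h2 : orderOf x ∣ 2 ^ k) (ho : Odd (orderOf x)) :
    x = 1 :=
  orderOf_eq_one_iff.mp (Nat.Coprime.eq_one_of_dvd ((Nat.coprime_two_right.mpr ho).pow_right k) h2)

theorem eq_one_of_sq {x : G} (h2 : x * x = 1) (ho : Odd (orderOf x)) : x = 1 :=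
  eq_one_of_two_pow (k := 1) (by
    rw [pow_one]; exact orderOf_dvd_of_pow_eq_one (by rw [sq, h2])) ho

theorem eq_one_of_mem_both {P R : Subgroup G} (hP : IsPGroup 2 P) (hR : Odd (Nat.card R)) {x : G}
    (hxP : x ∈ P) (hxR : x ∈ R) : x = 1 := by
  obtain ⟨k, hk⟩ := IsPGroup.iff_orderOf.mp hP ⟨x, hxP⟩
  rw [Subgroup.orderOf_mk] at hk
  exact eq_one_of_two_pow (k := k) hk.dvd (odd_orderOf hR hxR)

/-- A 2-element congruent modulo the core to an element of odd order lies in the core. -/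
theorem mem_coreOf_of_congr {H : Subgroup G} {q w : G} (hq : q ∈ H) {k : ℕ}
    (hq2 : orderOf q ∣ 2 ^ k) (hw : Odd (orderOf w)) (hwq : w * q⁻¹ ∈ coreOf H) :
    q ∈ coreOf H := by
  haveI := pPrimeCore_normal 2 ↥H
  have hwH : w ∈ H := by simpa using mul_mem (coreOf_le H hwq) hq
  obtain ⟨c, hc, hce⟩ := hwq
  set f := QuotientGroup.mk' (pPrimeCore 2 ↥H)
  have he : f ⟨w, hwH⟩ = f ⟨q, hq⟩ := by
    rw [show (⟨w, hwH⟩ : H) = c * ⟨q, hq⟩ from Subtype.ext (by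
      rw [Subgroup.coe_mul]; exact (eq_mul_inv_iff_mul_eq.mp hce).symm), map_mul,
      show f c = 1 from (QuotientGroup.eq_one_iff c).mpr hc, one_mul]
  have h1 : orderOf (f ⟨q, hq⟩) ∣ 2 ^ k :=
    (orderOf_map_dvd f _).trans (by rwa [Subgroup.orderOf_mk])
  have h2 : orderOf (f ⟨q, hq⟩) ∣ orderOf w := by
    rw [← he]; exact (orderOf_map_dvd f _).trans (dvd_of_eq (Subgroup.orderOf_mk w hwH))
  have h3 : f ⟨q, hq⟩ = 1 := orderOf_eq_one_iff.mp (Nat.Coprime.eq_one_of_dvd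
    (((Nat.coprime_two_right.mpr hw).pow_right k).coprime_dvd_left h2) h1)
  exact ⟨_, (QuotientGroup.eq_one_iff _).mp h3, rfl⟩

theorem exists_mul_of_mem_sup {A R : Subgroup G} (hn : ∀ a ∈ A, ∀ r ∈ R, a * r * a⁻¹ ∈ R)
    {x : G} (hx : x ∈ A ⊔ R) : ∃ a ∈ A, ∃ r ∈ R, x = a * r := by
  have hAN : A ≤ Subgroup.normalizer (R : Set G) := fun a ha =>
    ExtremelyClosed.mem_normalizer_of_conj_mem (hn a ha)
  rw [← SetLike.mem_coe, Subgroup.coe_mul_of_left_le_normalizer_right A R hAN] at hx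
  obtain ⟨a, ha, r, hr, he⟩ := hx
  exact ⟨a, ha, r, hr, he.symm⟩

theorem isPGroup_map_conj {P : Subgroup G} (hP : IsPGroup 2 P) (g : G) :
    IsPGroup 2 ↥(P.map (MulAut.conj g).toMonoidHom) := hP.map _

theorem isPGroup_zpowers {t : G} (ht : orderOf t = 2) : IsPGroup 2 ↥(Subgroup.zpowers t) :=
  IsPGroup.of_card (n := 1) (by rw [Nat.card_zpowers, ht, pow_one])

/-- `P` is a Sylow 2-subgroup of `L`, inside `G`. -/
def IsSyl (L P : Subgroup G) : Prop :=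
  P ≤ L ∧ IsPGroup 2 P ∧ ∀ Q : Subgroup G, Q ≤ L → IsPGroup 2 Q → P ≤ Q → Q ≤ P

theorem IsSyl.exists_sylow {L P : Subgroup G} (h : IsSyl L P) :
    ∃ S : Sylow 2 L, (S : Subgroup L) = P.subgroupOf L := by
  obtain ⟨S, hS⟩ := (h.2.1.comap_of_injective L.subtype L.subtype_injective).exists_le_sylow
  refine ⟨S, le_antisymm (fun x hx => ?_) hS⟩
  exact h.2.2 _ (Subgroup.map_subtype_le _) (S.2.map _)
    (fun p hp => ⟨⟨p, h.1 hp⟩, hS hp, rfl⟩) ⟨x, hx, rfl⟩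

theorem IsSyl.exists_conj {L P : Subgroup G} (h : IsSyl L P) {B : Subgroup G} (hBL : B ≤ L)
    (hB : IsPGroup 2 B) : ∃ l ∈ L, ∀ b ∈ B, l * b * l⁻¹ ∈ P := by
  obtain ⟨S, hS⟩ := h.exists_sylow
  obtain ⟨T, hT⟩ := (hB.comap_of_injective L.subtype L.subtype_injective).exists_le_sylow
  obtain ⟨l, hl⟩ := MulAction.exists_smul_eq L T S
  refine ⟨l, l.2, fun b hb => ?_⟩
  have hm : l * ⟨b, hBL hb⟩ * l⁻¹ ∈ (S : Subgroup L) := by
    rw [← hl]; exact ⟨⟨b, hBL hb⟩, hT hb, rfl⟩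
  rw [hS] at hm
  exact hm

theorem IsSyl.exists_conj_mem {L P : Subgroup G} (h : IsSyl L P) {t : G} (htL : t ∈ L)
    (ht : orderOf t = 2) : ∃ l ∈ L, l * t * l⁻¹ ∈ P := by
  obtain ⟨l, hl, hlb⟩ := h.exists_conj (Subgroup.zpowers_le.mpr htL) (isPGroup_zpowers ht)
  exact ⟨l, hl, hlb t (Subgroup.mem_zpowers t)⟩

theorem isSyl_sup_odd {A R : Subgroup G} (hA : IsPGroup 2 A) (hR : Odd (Nat.card R))
    (hn : ∀ a ∈ A, ∀ r ∈ R, a * r * a⁻¹ ∈ R) : IsSyl (A ⊔ R) A := by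
  refine ⟨le_sup_left, hA, fun Q hQ hQ2 hAQ x hx => ?_⟩
  obtain ⟨a, ha, r, hr, rfl⟩ := exists_mul_of_mem_sup hn (hQ hx)
  have hrQ : r ∈ Q := by simpa using mul_mem (inv_mem (hAQ ha)) hx
  rwa [eq_one_of_mem_both hQ2 hR hrQ hr, mul_one]

/-- `A` is normal in `H` modulo the core of `H`. -/
def Good (A H : Subgroup G) : Prop :=
  ∀ h ∈ H, ∀ a ∈ A, h * a * h⁻¹ ∈ A ⊔ coreOf H

theorem Good.mono {A H K : Subgroup G} (h : Good A H) (hAK : A ≤ K) (hKH : K ≤ H) : Good A K := by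
  intro k hk a ha
  obtain ⟨a', ha', r, hr, he⟩ := exists_mul_of_mem_sup
    (fun x hx r hr => conj_mem_coreOf (hKH (hAK hx)) hr) (h k (hKH hk) a ha)
  have hrK : r ∈ K := by
    rw [show r = a'⁻¹ * (k * a * k⁻¹) by rw [he, inv_mul_cancel_left]]
    exact mul_mem (inv_mem (hAK ha')) (mul_mem (mul_mem hk (hAK ha)) (inv_mem hk))
  refine he ▸ mul_mem (Subgroup.mem_sup_left ha') (Subgroup.mem_sup_right ?_)
  exact le_coreOf (R := coreOf H ⊓ K) inf_le_right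
    (fun x hx y hy => ⟨conj_mem_coreOf (hKH hx) hy.1, K.mul_mem (K.mul_mem hx hy.2) (K.inv_mem hx)⟩)
    ((odd_coreOf H).of_dvd_nat (Subgroup.card_dvd_of_le inf_le_left)) ⟨hr, hrK⟩

/-- Frattini argument. -/
theorem Good.decomp {A H : Subgroup G} (h : Good A H) (hA : IsPGroup 2 A) (hAH : A ≤ H) {g : G}
    (hg : g ∈ H) : ∃ r ∈ coreOf H, ∃ n ∈ Subgroup.normalizer (A : Set G), n ∈ H ∧ g = r * n := by
  have hn : ∀ a ∈ A, ∀ r ∈ coreOf H, a * r * a⁻¹ ∈ coreOf H := fun a ha r hr =>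
    conj_mem_coreOf (hAH ha) hr
  obtain ⟨l, hl, hlA⟩ := (isSyl_sup_odd hA (odd_coreOf H) hn).exists_conj
    (B := A.map (MulAut.conj g).toMonoidHom)
    (by rintro _ ⟨a, ha, rfl⟩; exact h g hg a ha) (isPGroup_map_conj hA g)
  obtain ⟨a, ha, r, hr, rfl⟩ := exists_mul_of_mem_sup hn hl
  refine ⟨r⁻¹, inv_mem hr, r * g, ExtremelyClosed.mem_normalizer_of_conj_mem fun y hy => ?_,
    mul_mem (coreOf_le H hr) hg, by group⟩
  have h1 := hlA _ ⟨y, hy, rfl⟩
  have h2 := mul_mem (mul_mem (inv_mem ha) h1) ha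
  simpa [mul_assoc] using h2

/-- An element of odd order centralising `A` modulo an odd subgroup lies in the core. -/
theorem Good.mem_core {A H : Subgroup G} (h : Good A H) (hA : IsPGroup 2 A) (hAH : A ≤ H)
    (hA2 : ∀ a ∈ A, a * a = 1)
    (hcent : ∀ n ∈ H, n ∈ Subgroup.centralizer (A : Set G) → Odd (orderOf n) → n ∈ coreOf H)
    {x : G} (hx : x ∈ H) (hxo : Odd (orderOf x))
    (hcomm : ∀ a ∈ A, Odd (orderOf (x * a * x⁻¹ * a⁻¹))) : x ∈ coreOf H := by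
  obtain ⟨r, hr, n, hn, hnH, rfl⟩ := h.decomp hA hAH hx
  have hnc : n ∈ Subgroup.centralizer (A : Set G) := by
    rw [Subgroup.mem_centralizer_iff]
    intro a ha
    have ha' : n * a * n⁻¹ ∈ A := (Subgroup.mem_normalizer_iff.mp hn a).mp ha
    have hqA : n * a * n⁻¹ * a⁻¹ ∈ A := mul_mem ha' (inv_mem ha)
    have hq : n * a * n⁻¹ * a⁻¹ ∈ coreOf H := by
      refine mem_coreOf_of_congr (k := 1) (hAH hqA) ?_ (hcomm a ha) ?_
      · rw [pow_one]; exact orderOf_dvd_of_pow_eq_one (by rw [sq, hA2 _ hqA])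
      · rw [show r * n * a * (r * n)⁻¹ * a⁻¹ * (n * a * n⁻¹ * a⁻¹)⁻¹ =
          r * ((n * a * n⁻¹) * r⁻¹ * (n * a * n⁻¹)⁻¹) by group]
        exact mul_mem hr (conj_mem_coreOf (hAH ha') (inv_mem hr))
    have := mul_inv_eq_one.mp (eq_one_of_mem_both hA (odd_coreOf H) hqA hq)
    exact (mul_inv_eq_iff_eq_mul.mp this).symm
  obtain ⟨u, v, hu, hv, huv, ⟨k, hk⟩, hv2⟩ := Transfer.exists_pPart_decomposition (p := 2) n
  have hvH : v ∈ H := Subgroup.zpowers_le.mpr hnH hv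
  have hvr : v ∈ coreOf H := hcent v hvH (Subgroup.zpowers_le.mpr hnc hv)
    (Nat.coprime_two_right.mp hv2)
  refine mul_mem hr (huv ▸ mul_mem ?_ hvr)
  refine mem_coreOf_of_congr (Subgroup.zpowers_le.mpr hnH hu) hk hxo ?_
  rw [huv, show r * (u * v) * u⁻¹ = r * (u * v * u⁻¹) by group]
  exact mul_mem hr (conj_mem_coreOf (Subgroup.zpowers_le.mpr hnH hu) hvr)

/-- The fusion argument with the central involution of a dihedral group. -/
theorem eq_top_of_fusion {M : Subgroup G} {x y : G} (hx : orderOf x = 2) (hy : orderOf y = 2)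
    (hxM : x ∈ M) (hnc : ¬ IsConj x y)
    (hc : ∀ j ∈ M, orderOf j = 2 → Subgroup.centralizer ({j} : Set G) ≤ M)
    (hyf : ∀ g : G, g * y * g⁻¹ ∈ M → g ∈ M) : M = ⊤ := by
  rw [eq_top_iff]
  intro g _
  have ht : orderOf (g * y * g⁻¹) = 2 := (StronglyEmbedded.orderOf_conj g y).trans hy
  rcases Nat.even_or_odd (orderOf (x * (g * y * g⁻¹))) with he | ho
  · obtain ⟨v, -, hv, hvx, hvt, -⟩ := IsolatedPoint.dihedral_center hx ht he
    have hvM : v ∈ M := hc x hxM hx (Subgroup.mem_centralizer_singleton_iff.mpr hvx.eq)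
    exact hyf g (hc v hvM hv (Subgroup.mem_centralizer_singleton_iff.mpr hvt.eq.symm))
  · obtain ⟨w, -, hw⟩ := StronglyEmbedded.exists_zpowers_conj_of_odd hx ht ho
    exact absurd ((isConj_iff.mpr ⟨w, hw⟩ : IsConj x (g * y * g⁻¹)).trans
      (isConj_iff.mpr ⟨g, rfl⟩ : IsConj y (g * y * g⁻¹)).symm) hnc

abbrev cen (a : G) : Subgroup G := Subgroup.centralizer ({a} : Set G)

theorem conj_mem_coreOf_cen {a n r : G} (hr : r ∈ coreOf (cen a)) :
    n * r * n⁻¹ ∈ coreOf (cen (n * a * n⁻¹)) := by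
  refine le_coreOf (R := (coreOf (cen a)).map (MulAut.conj n).toMonoidHom) ?_ ?_ ?_
    ⟨r, hr, rfl⟩
  · rintro _ ⟨s, hs, rfl⟩
    have h1 := Subgroup.mem_centralizer_singleton_iff.mp (coreOf_le _ hs)
    rw [Subgroup.mem_centralizer_singleton_iff]
    show n * s * n⁻¹ * (n * a * n⁻¹) = n * a * n⁻¹ * (n * s * n⁻¹)
    rw [show n * s * n⁻¹ * (n * a * n⁻¹) = n * (s * a) * n⁻¹ by group, h1]; group
  · rintro c hc _ ⟨s, hs, rfl⟩
    have hcc : n⁻¹ * c * n ∈ cen a := by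
      have h1 := Subgroup.mem_centralizer_singleton_iff.mp hc
      rw [Subgroup.mem_centralizer_singleton_iff,
        show n⁻¹ * c * n * a = n⁻¹ * (c * (n * a * n⁻¹)) * n by group, h1]
      group
    refine ⟨(n⁻¹ * c * n) * s * (n⁻¹ * c * n)⁻¹, conj_mem_coreOf hcc hs, ?_⟩
    show n * _ * n⁻¹ = c * (n * s * n⁻¹) * c⁻¹
    group
  · rw [Subgroup.card_map_of_injective (MulAut.conj n).injective]
    exact odd_coreOf _

/-- The closure of the cores, and the subgroup containing all the centralisers. -/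
theorem exists_cover {A : Subgroup G} (hA : IsElementaryAbelian 2 A) (h8 : 2 ^ 3 ≤ Nat.card A)
    (hbal : ∀ a ∈ A, a ≠ 1 → ∀ b ∈ A, b ≠ 1 → coreOf (cen a) ⊓ cen b ≤ coreOf (cen b))
    (hgood : ∀ a ∈ A, a ≠ 1 → Good A (cen a)) :
    ∃ W M : Subgroup G, Odd (Nat.card W) ∧ (∀ m ∈ M, ∀ w ∈ W, m * w * m⁻¹ ∈ W) ∧
      Subgroup.normalizer (A : Set G) ≤ M ∧ (∀ a ∈ A, a ≠ 1 → cen a ≤ M) ∧
      ∀ m ∈ M, ∃ w ∈ W, ∃ n ∈ Subgroup.normalizer (A : Set G), m = w * n := by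
  have hA2 : ∀ a ∈ A, a * a = 1 := fun a ha => by rw [← sq]; exact hA.2 a ha
  have hcomm : ∀ a ∈ A, ∀ b ∈ A, a * b = b * a := fun a ha b hb =>
    congrArg Subtype.val (hA.1.1.comm (⟨a, ha⟩ : A) ⟨b, hb⟩)
  set θ : G → Subgroup G := fun a => coreOf (cen a) with hθdef
  have hθ : IsSolvableSignalizerFunctor 2 A θ := by
    refine ⟨⟨fun a _ _ => coreOf_le _, fun a _ _ => not_two_dvd_of_odd (odd_coreOf _),
      fun a ha _ b hb x hx => conj_mem_coreOf
        (Subgroup.mem_centralizer_singleton_iff.mpr (hcomm b hb a ha)) hx, hbal⟩, ?_⟩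
    exact fun a _ _ => Cfsg.Agent.S0205.result (odd_coreOf _)
  obtain ⟨W, -, hW2, -, -, hcl⟩ := SolvSignalizer.exists_solvable_closure_two hA h8 hθ
  have hconj : ∀ n ∈ Subgroup.normalizer (A : Set G), ∀ w ∈ W, n * w * n⁻¹ ∈ W := by
    intro n hn w hw
    rw [← hcl] at hw ⊢
    revert w
    show signalizerClosure A θ ≤ (signalizerClosure A θ).comap (MulAut.conj n).toMonoidHom
    refine iSup_le fun a => fun r hr => ?_
    have ha' : n * (a : G) * n⁻¹ ∈ A := (Subgroup.mem_normalizer_iff.mp hn _).mp a.2.1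
    exact (le_iSup (fun b : {b : G // b ∈ A ∧ b ≠ 1} => θ (b : G))
      ⟨_, ha', fun h1 => a.2.2 (conj_eq_one_iff.mp h1)⟩) (conj_mem_coreOf_cen hr)
  have hNW : Subgroup.normalizer (A : Set G) ≤ Subgroup.normalizer (W : Set G) := fun n hn =>
    ExtremelyClosed.mem_normalizer_of_conj_mem (hconj n hn)
  have hdec : ∀ m ∈ W ⊔ Subgroup.normalizer (A : Set G),
      ∃ w ∈ W, ∃ n ∈ Subgroup.normalizer (A : Set G), m = w * n := by
    intro m hm
    rw [← SetLike.mem_coe, Subgroup.coe_mul_of_right_le_normalizer_left W _ hNW] at hm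
    obtain ⟨w, hw, n, hn, he⟩ := hm
    exact ⟨w, hw, n, hn, he.symm⟩
  refine ⟨W, W ⊔ Subgroup.normalizer (A : Set G), ExtremelyClosed.odd_of_not_two_dvd hW2, ?_,
    le_sup_right, ?_, hdec⟩
  · intro m hm x hx
    obtain ⟨w, hw, n, hn, rfl⟩ := hdec m hm
    rw [show w * n * x * (w * n)⁻¹ = w * (n * x * n⁻¹) * w⁻¹ by group]
    exact mul_mem (mul_mem hw (hconj n hn x hx)) (inv_mem hw)
  · intro a ha ha1 g hg
    obtain ⟨r, hr, n, hn, -, rfl⟩ := (hgood a ha ha1).decomp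
      (fun x => ⟨1, Subtype.ext (by rw [pow_one]; exact hA.2 x x.2)⟩)
      (fun b hb => Subgroup.mem_centralizer_singleton_iff.mpr (hcomm b hb a ha)) hg
    refine mul_mem (Subgroup.mem_sup_left ?_) (Subgroup.mem_sup_right hn)
    rw [← hcl]
    exact le_iSup (fun b : {b : G // b ∈ A ∧ b ≠ 1} => θ (b : G)) ⟨a, ha, ha1⟩ hr

end CfsgLib.EightType55
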