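import Cfsg.Agent.EightType55.Pair

/-!
The centralizer of the central involution: `A` is normal modulo the odd core.
-/

set_option autoImplicit false
set_option linter.style.haveILetI false
set_option linter.unusedSectionVars false

universe u

namespace CfsgLib.EightType55

open Cfsg
open CfsgLib.StronglyEmbedded (orderOf_two_iff)

variable {G : Type u} [Group G] [Finite G] {A : Subgroup G}

local instance : Fact (Nat.Prime 2) := ⟨Nat.prime_two⟩

namespace Setting

variable (h : Setting A)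

/-- The group of order two at the centre. -/
noncomputable def zG : Subgroup G := Subgroup.zpowers (h.z : G)

theorem mem_zG {x : G} : x ∈ h.zG ↔ x = 1 ∨ x = h.z := by
  refine ⟨?_, ?_⟩
  · rintro ⟨k, rfl⟩
    obtain ⟨m, rfl | rfl⟩ := Int.even_or_odd' k
    · left; show (h.z : G) ^ (2 * m) = 1
      rw [zpow_mul, zpow_two, h.sqG h.z.2, one_zpow]
    · right; show (h.z : G) ^ (2 * m + 1) = h.z
      rw [zpow_add_one, zpow_mul, zpow_two, h.sqG h.z.2, one_zpow, one_mul]
  · rintro (rfl | rfl)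
    · exact one_mem _
    · exact Subgroup.mem_zpowers _

theorem zG_le_WG : h.zG ≤ h.WG := Subgroup.zpowers_le.mpr h.z_mem_WG

theorem zG_of_sub {a : A} (ha : a ∈ Subgroup.zpowers h.z) : (a : G) ∈ h.zG := by
  rcases h.mem_zpowers_z.mp ha with rfl | rfl <;> simp [mem_zG]

theorem le_cen_z : (h.S : Subgroup G) ≤ cen (h.z : G) := fun _ hs =>
  Subgroup.mem_centralizer_singleton_iff.mpr (h.z_comm hs)

theorem zG_comm_cen {g c : G} (hg : g ∈ cen (h.z : G)) (hc : c ∈ h.zG) : g * c = c * g := by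
  rcases h.mem_zG.mp hc with rfl | rfl
  · rw [one_mul, mul_one]
  · exact Subgroup.mem_centralizer_singleton_iff.mp hg

theorem zG_comm_S {s c : G} (hs : s ∈ (h.S : Subgroup G)) (hc : c ∈ h.zG) : s * c = c * s :=
  h.zG_comm_cen (h.le_cen_z hs) hc

include h in
/-- The subgroup `W⟨u₁, u₂⟩`. -/
theorem exists_Q {v : G} (hv : v ∈ A) (hvW : v ∉ h.WG) :
    ∃ Q : Subgroup G, Q ≤ (h.S : Subgroup G) ∧ h.WG ≤ Q ∧ (∀ x ∈ Q, x ∈ A → x ∈ h.WG) ∧ v ∉ Q ∧
      (∀ s ∈ (h.S : Subgroup G), s ∈ Q ∨ s * v ∈ Q) ∧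
      (∀ a ∈ (h.S : Subgroup G), ∀ b ∈ (h.S : Subgroup G), (a * b ∈ Q ↔ (a ∈ Q ↔ b ∈ Q))) ∧
      (∀ x ∈ Q, x * x ∈ h.zG) ∧
      (∀ x ∈ (h.S : Subgroup G), x * x = 1 → x ∉ A → x ∈ Q) ∧
      ∃ u ∈ Q, u ∉ A ∧ u * u = 1 := by
  obtain ⟨u, w, hu, hw, hu2, hw2, hc, hug, hwg⟩ := h.exists_pair
  set V := pairSub u w hu2 hw2 hc with hV
  have hVS : V ≤ (h.S : Subgroup G) := by
    rintro x (rfl | rfl | rfl | rfl)
    exacts [one_mem _, hu, hw, mul_mem hu hw]
  have hVimg : ∀ g ∈ fourV, ∃ e, ∃ he : e ∈ V, h.img (hVS he) = g := by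
    intro g hg
    rw [mem_fourV] at hg
    rcases hg with rfl | rfl | rfl | rfl
    · exact ⟨1, one_mem _, (h.img_eq_one _).mpr (one_mem _)⟩
    · exact ⟨u, Or.inr (Or.inl rfl), hug⟩
    · exact ⟨w, Or.inr (Or.inr (Or.inl rfl)), hwg⟩
    · refine ⟨u * w, Or.inr (Or.inr (Or.inr rfl)), ?_⟩
      rw [h.img_mul hu hw, hug, hwg, five_facts.2.2.2.1]
  have hV2 : ∀ e ∈ V, e * e = 1 := by
    rintro e (rfl | rfl | rfl | rfl)
    · rw [one_mul]
    · exact hu2
    · exact hw2
    · rw [show u * w * (u * w) = u * (w * u) * w by simp [mul_assoc], hc, ← mul_assoc, hu2, one_mul,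
        hw2]
  have hn : ∀ e ∈ V, ∀ x ∈ h.WG, e * x * e⁻¹ ∈ h.WG := fun e he x hx =>
    h.conj_WG (h.hSN (hVS he)) (h.z_comm (hVS he)) hx
  have hWS : h.WG ≤ (h.S : Subgroup G) := fun x hx => h.hAS (h.WG_le hx)
  have hvQ : v ∉ V ⊔ h.WG := by
    intro hvQ
    obtain ⟨e, he, b, hb, rfl⟩ := exists_mul_of_mem_sup hn hvQ
    have heA : e ∈ A := by simpa using mul_mem hv (inv_mem (h.WG_le hb))
    rcases he with rfl | rfl | rfl | rfl
    · exact hvW (by simpa using hb)
    · exact absurd ((h.img_eq_one hu).mpr heA) (by rw [hug]; exact five_facts.1.1)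
    · exact absurd ((h.img_eq_one hw).mpr heA) (by rw [hwg]; exact five_facts.1.2.1)
    · exact absurd ((h.img_eq_one (mul_mem hu hw)).mpr heA)
        (by rw [h.img_mul hu hw, hug, hwg, five_facts.2.2.2.1]; exact five_facts.1.2.2.1)
  have hcov : ∀ s ∈ (h.S : Subgroup G), s ∈ V ⊔ h.WG ∨ s * v ∈ V ⊔ h.WG := by
    intro s hs
    obtain ⟨e, he, heg⟩ := hVimg _ (h.img_mem hs)
    have ha : e * s ∈ A := by
      rw [← h.img_eq_one (mul_mem (hVS he) hs), h.img_mul (hVS he) hs, heg,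
        four_mul_self (h.img_mem hs)]
    have hse : s = e * (e * s) := by rw [← mul_assoc, hV2 e he, one_mul]
    by_cases haW : e * s ∈ h.WG
    · left; rw [hse]; exact mul_mem (Subgroup.mem_sup_left he) (Subgroup.mem_sup_right haW)
    · right
      rw [hse, mul_assoc]
      refine mul_mem (Subgroup.mem_sup_left he) (Subgroup.mem_sup_right ?_)
      rw [h.mem_WG ha] at haW
      rw [h.mem_WG hv] at hvW
      rw [h.mem_WG (mul_mem ha hv)]
      exact (Subgroup.mul_mem_iff_of_index_two (a := (⟨_, ha⟩ : A)) (b := ⟨v, hv⟩) h.index_W).mpr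
        (iff_of_false haW hvW)
  refine ⟨V ⊔ h.WG, sup_le hVS hWS, le_sup_right, ?_, ?_, ?_, ?_, ?_, ?_, u,
    Subgroup.mem_sup_left (Or.inr (Or.inl rfl)),
    fun hA => five_facts.1.1 (by rw [← hug]; exact (h.img_eq_one hu).mpr hA), hu2⟩
  · intro x hx hxA
    obtain ⟨e, he, b, hb, rfl⟩ := exists_mul_of_mem_sup hn hx
    have heA : e ∈ A := by simpa using mul_mem hxA (inv_mem (h.WG_le hb))
    have he1 : e = 1 := by
      rcases he with rfl | rfl | rfl | rfl
      · rfl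
      · exact absurd ((h.img_eq_one hu).mpr heA) (by rw [hug]; exact five_facts.1.1)
      · exact absurd ((h.img_eq_one hw).mpr heA) (by rw [hwg]; exact five_facts.1.2.1)
      · exact absurd ((h.img_eq_one (mul_mem hu hw)).mpr heA)
          (by rw [h.img_mul hu hw, hug, hwg, five_facts.2.2.2.1]; exact five_facts.1.2.2.1)
    rw [he1, one_mul]
    exact hb
  · exact hvQ
  · exact hcov
  · intro a ha b hb
    set Q' := (V ⊔ h.WG).subgroupOf (h.S : Subgroup G)
    have hidx : Q'.index = 2 := by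
      rw [Subgroup.index_eq_two_iff]
      refine ⟨⟨v, h.hAS hv⟩, fun s => ?_⟩
      rcases hcov s s.2 with e | e
      · exact Or.inr ⟨e, fun hsv => hvQ (by
          simpa using mul_mem (inv_mem e) (show (s : G) * v ∈ V ⊔ h.WG from hsv))⟩
      · exact Or.inl ⟨e, fun hs' => hvQ (by
          simpa using mul_mem (inv_mem (show (s : G) ∈ V ⊔ h.WG from hs')) e)⟩
    exact Subgroup.mul_mem_iff_of_index_two (a := (⟨a, ha⟩ : (h.S : Subgroup G))) (b := ⟨b, hb⟩) hidx
  · intro x hx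
    obtain ⟨e, he, b, hb, rfl⟩ := exists_mul_of_mem_sup hn hx
    by_cases heA : e ∈ A
    · rw [h.sqG (mul_mem heA (h.WG_le hb))]; exact one_mem _
    · obtain ⟨a, ha, rfl⟩ := hb
      have h1 := h.zG_of_sub (h.psi_W (h.img_mem (hVS he)) (h.img_ne (hVS he) heA) ha)
      rw [h.psi_img (hVS he), inv_eq_of_mul_eq_one_right (hV2 e he)] at h1
      rwa [show e * A.subtype a * (e * A.subtype a) = e * (a : G) * e * (a : G) by
        simp [mul_assoc]]
  · intro x hx hx2 hxA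
    obtain ⟨e, he, heg⟩ := hVimg _ (h.img_mem hx)
    have heA : e ∉ A := fun hA => h.img_ne hx hxA (by rw [← heg]; exact (h.img_eq_one _).mpr hA)
    obtain ⟨a, ha, rfl⟩ := h.coset_conj (hVS he) hx (hV2 e he) hx2 heA heg
    have h1 := h.psi_mem_WG (hVS he) heA ⟨a, ha⟩
    rw [h.psi_img (hVS he)] at h1
    have h2 : a * e * a⁻¹ = e * (e * a * e⁻¹ * a) := by
      rw [inv_eq_of_mul_eq_one_right (h.sqG ha), inv_eq_of_mul_eq_one_right (hV2 e he)]
      simp only [← mul_assoc, hV2 e he, one_mul]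
    rw [h2]
    exact mul_mem (Subgroup.mem_sup_left he) (Subgroup.mem_sup_right h1)

include h in
/-- An element normalising `Q` and fixing a nontrivial class modulo the centre acts as a two-element. -/
theorem pow_four_fix {Q : Subgroup G} (hQS : Q ≤ (h.S : Subgroup G)) (hWQ : h.WG ≤ Q)
    (hQA : ∀ x ∈ Q, x ∈ A → x ∈ h.WG) {n : G} (hn : n ∈ cen (h.z : G))
    (hnQ : ∀ x ∈ Q, n * x * n⁻¹ ∈ Q) {t : G} (ht : t ∈ Q) (htz : t ∉ h.zG)
    (hfix : ∃ c ∈ h.zG, n * t * n⁻¹ = t * c) :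
    ∀ s ∈ Q, ∃ c ∈ h.zG, n * (n * (n * (n * s * n⁻¹) * n⁻¹) * n⁻¹) * n⁻¹ = s * c := by
  set F : G → Prop := fun x => ∃ c ∈ h.zG, n * x * n⁻¹ = x * c with hF
  have hWn : ∀ x ∈ h.WG, n * x * n⁻¹ ∈ h.WG := fun x hx =>
    hQA _ (hnQ x (hWQ hx)) (h.mem_A_of_conj (h.WG_le hx) (hQS (hnQ x (hWQ hx))))
  have hnc : ∀ c ∈ h.zG, n * c * n⁻¹ = c := fun c hc => by
    rw [h.zG_comm_cen hn hc, mul_inv_cancel_right]
  -- a fixed class in the hyperplane
  obtain ⟨w₀, hw₀, hw₀z, hw₀F⟩ : ∃ w₀ ∈ h.WG, w₀ ∉ h.zG ∧ F w₀ := by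
    by_cases htA : t ∈ A
    · exact ⟨t, hQA t ht htA, htz, hfix⟩
    have hk1 := h.img_ne (hQS ht) htA
    set k := h.img (hQS ht)
    obtain ⟨a, ha, ha1⟩ : ∃ a ∈ h.fixA k, a ∉ ({1, h.z} : Set A) := by
      refine Set.exists_mem_notMem_of_ncard_lt_ncard ?_ (Set.toFinite _)
      rw [← Nat.card_coe_set_eq (h.fixA k : Set A)]
      refine lt_of_le_of_lt (Set.ncard_insert_le _ _) ?_
      rw [Set.ncard_singleton]
      exact lt_of_lt_of_le (by norm_num) (h.card_fix (h.img_mem (hQS ht)) hk1).ge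
    simp only [Set.mem_insert_iff, Set.mem_singleton_iff, not_or] at ha1
    have haW : (a : G) ∈ h.WG := (h.mem_WG a.2).mpr (h.fix_le_W (h.img_mem (hQS ht)) hk1 ha)
    have haz : (a : G) ∉ h.zG := by
      rw [mem_zG]; rintro (e | e)
      · exact ha1.1 (Subtype.ext e)
      · exact ha1.2 (Subtype.ext e)
    refine ⟨a, haW, haz, ?_⟩
    obtain ⟨c, hc, hce⟩ := hfix
    have hw' := hWn _ haW
    set w' : A := ⟨_, h.WG_le hw'⟩ with hw'def
    have hwfix : w' ∈ h.fixA k := by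
      rw [h.mem_fix_iff (hQS ht)]
      show t * (n * a * n⁻¹) = n * a * n⁻¹ * t
      have h1 : t * c * (n * a * n⁻¹) = n * a * n⁻¹ * (t * c) := by
        rw [← hce]
        calc n * t * n⁻¹ * (n * a * n⁻¹) = n * (t * a) * n⁻¹ := by group
          _ = n * (a * t) * n⁻¹ := by rw [(h.mem_fix_iff (hQS ht) a).mp ha]
          _ = n * a * n⁻¹ * (n * t * n⁻¹) := by group
      have h2 : n * a * n⁻¹ * c = c * (n * a * n⁻¹) := h.zG_comm_S (h.hAS w'.2) hc
      refine mul_right_cancel (b := c) ?_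
      rw [mul_assoc t, h2, ← mul_assoc t, h1]
      simp [mul_assoc]
    have hset : ({1, h.z, a, a * h.z} : Set A) = (h.fixA k : Set A) := by
      refine Set.eq_of_subset_of_ncard_le ?_ ?_ (Set.toFinite _)
      · intro x hx
        simp only [Set.mem_insert_iff, Set.mem_singleton_iff] at hx
        rcases hx with rfl | rfl | rfl | rfl
        exacts [one_mem _, h.z_mem_fix (h.img_mem _), ha,
          mul_mem ha (h.z_mem_fix (h.img_mem _))]
      · rw [← Nat.card_coe_set_eq (h.fixA k : Set A)]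
        refine le_trans (h.card_fix (h.img_mem (hQS ht)) hk1).le ?_
        rw [Set.ncard_insert_of_notMem, Set.ncard_insert_of_notMem, Set.ncard_insert_of_notMem,
          Set.ncard_singleton]
        · simp [h.z_ne]
        · simp only [Set.mem_insert_iff, Set.mem_singleton_iff, not_or]
          refine ⟨fun e => ha1.2 e.symm, fun e => ha1.1 (mul_eq_right.mp e.symm)⟩
        · simp only [Set.mem_insert_iff, Set.mem_singleton_iff, not_or]
          refine ⟨h.z_ne.symm, fun e => ha1.1 e.symm, fun e => ha1.2 ?_⟩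
          rw [eq_inv_of_mul_eq_one_left e.symm, h.invA]
    have hmem : w' ∈ ({1, h.z, a, a * h.z} : Set A) := hset ▸ hwfix
    simp only [Set.mem_insert_iff, Set.mem_singleton_iff] at hmem
    rcases hmem with e | e | e | e
    · exact absurd (h.mem_zG.mpr (Or.inl (conj_eq_one_iff.mp (congrArg Subtype.val e)))) haz
    · have h1 : n * a * n⁻¹ = n * h.z * n⁻¹ := (congrArg Subtype.val e).trans
        (hnc _ (Subgroup.mem_zpowers _)).symm
      exact absurd (h.mem_zG.mpr (Or.inr (mul_left_cancel (mul_right_cancel h1)))) haz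
    · exact ⟨1, one_mem _, (congrArg Subtype.val e).trans (mul_one _).symm⟩
    · exact ⟨h.z, Subgroup.mem_zpowers _, congrArg Subtype.val e⟩
  -- the fixed classes form a subgroup of index at most two
  have hFmul : ∀ x ∈ h.WG, ∀ y ∈ h.WG, F x → F y → F (x * y) := by
    rintro x _ y hy ⟨c, hc, e⟩ ⟨d, hd, e'⟩
    refine ⟨c * d, mul_mem hc hd, ?_⟩
    rw [show n * (x * y) * n⁻¹ = (n * x * n⁻¹) * (n * y * n⁻¹) by group, e, e']
    calc x * c * (y * d) = x * (c * y) * d := by simp [mul_assoc]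
      _ = x * y * (c * d) := by rw [← h.zG_comm_S (h.hAS (h.WG_le hy)) hc]; simp [mul_assoc]
  let L : Subgroup h.WG :=
    { carrier := {a | F (a : G)}
      one_mem' := ⟨1, one_mem _, by simp⟩
      mul_mem' := fun {a b} ha hb => hFmul _ a.2 _ b.2 ha hb
      inv_mem' := fun {a} ha => by
        show F ((a⁻¹ : h.WG) : G)
        rw [Subgroup.coe_inv, inv_eq_of_mul_eq_one_right (h.sqG (h.WG_le a.2))]
        exact ha }
  have hWcard : Nat.card h.WG = 8 := by
    rw [Setting.WG, Subgroup.card_map_of_injective A.subtype_injective, h.card_W]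
  have hL : L.index ≤ 2 := by
    have h3 : 2 < Nat.card L := by
      have h4 : Nat.card ({⟨1, one_mem _⟩, ⟨h.z, h.z_mem_WG⟩, ⟨w₀, hw₀⟩} : Set h.WG) ≤
          Nat.card L := Nat.card_mono (Set.toFinite (L : Set h.WG)) fun x hx => by
        simp only [Set.mem_insert_iff, Set.mem_singleton_iff] at hx
        rcases hx with rfl | rfl | rfl
        · exact L.one_mem
        · exact ⟨1, one_mem _, by rw [hnc _ (Subgroup.mem_zpowers _), mul_one]⟩
        · exact hw₀F
      rw [Nat.card_coe_set_eq, Set.ncard_insert_of_notMem, Set.ncard_pair] at h4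
      · omega
      · exact fun e => hw₀z (h.mem_zG.mpr (Or.inr (congrArg Subtype.val e).symm))
      · simp only [Set.mem_insert_iff, Set.mem_singleton_iff, not_or]
        exact ⟨fun e => h.z_ne (Subtype.ext (congrArg Subtype.val e).symm),
          fun e => hw₀z (h.mem_zG.mpr (Or.inl (congrArg Subtype.val e).symm))⟩
    have := L.card_mul_index
    rw [hWcard] at this
    by_contra hlt
    have := Nat.mul_le_mul (show 3 ≤ Nat.card L by omega) (show 3 ≤ L.index by omega)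
    omega
  have hW2 : ∀ x ∈ h.WG, ∃ c ∈ h.zG, n * (n * x * n⁻¹) * n⁻¹ = x * c := by
    intro x hx
    by_cases hxF : F x
    · obtain ⟨c, hc, e⟩ := hxF
      refine ⟨c * c, mul_mem hc hc, ?_⟩
      rw [e, show n * (x * c) * n⁻¹ = (n * x * n⁻¹) * (n * c * n⁻¹) by group, e, hnc c hc,
        mul_assoc]
    · have hb := hWn x hx
      have hbF : ¬ F (n * x * n⁻¹) := by
        rintro ⟨c, hc, e⟩
        refine hxF ⟨c, hc, ?_⟩
        conv at e => rhs; rw [← hnc c hc]
        rw [show n * x * n⁻¹ * (n * c * n⁻¹) = n * (x * c) * n⁻¹ by group] at e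
        exact mul_left_cancel (mul_right_cancel e)
      have hidx : L.index = 2 := by
        refine le_antisymm hL ?_
        by_contra h1
        have h0 : L.index ≠ 0 := Subgroup.index_ne_zero_of_finite
        exact hxF ((Subgroup.index_eq_one.mp (show L.index = 1 by omega)).ge
          (Subgroup.mem_top (⟨x, hx⟩ : h.WG)))
      obtain ⟨c, hc, e⟩ := (Subgroup.mul_mem_iff_of_index_two (a := (⟨x, hx⟩ : h.WG))
        (b := ⟨_, hb⟩) hidx).mpr (iff_of_false hxF hbF)
      refine ⟨c, hc, ?_⟩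
      have e' : n * x * n⁻¹ * (n * (n * x * n⁻¹) * n⁻¹) = x * (n * x * n⁻¹) * c := by
        rw [show n * x * n⁻¹ * (n * (n * x * n⁻¹) * n⁻¹) = n * (x * (n * x * n⁻¹)) * n⁻¹ by group]
        exact e
      rw [h.commG (h.WG_le hx) (h.WG_le hb), mul_assoc (n * x * n⁻¹) x c] at e'
      exact mul_left_cancel e'
  -- the pairing with the hyperplane
  intro s hs
  set m := n * n with hm
  have hmc : ∀ c ∈ h.zG, m * c * m⁻¹ = c := fun c hc => by
    rw [show m * c * m⁻¹ = n * (n * c * n⁻¹) * n⁻¹ by rw [hm]; group, hnc c hc, hnc c hc]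
  have hmW : ∀ x ∈ h.WG, ∃ c ∈ h.zG, m * x * m⁻¹ = x * c := fun x hx => by
    rw [show m * x * m⁻¹ = n * (n * x * n⁻¹) * n⁻¹ by rw [hm]; group]; exact hW2 x hx
  have hs' : m * s * m⁻¹ ∈ Q := by
    rw [show m * s * m⁻¹ = n * (n * s * n⁻¹) * n⁻¹ by rw [hm]; group]; exact hnQ _ (hnQ _ hs)
  set d := s⁻¹ * (m * s * m⁻¹) with hd
  have hdQ : d ∈ Q := mul_mem (inv_mem hs) hs'
  have hdW : d ∈ h.WG := by
    refine hQA d hdQ (h.not_mem_WG_of_comm (hQS hdQ) fun w hw => ?_)
    obtain ⟨c', hc', hw'⟩ := hmW w hw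
    -- the commutator of `s` with `w` is central
    obtain ⟨c, hc, hsw⟩ : ∃ c ∈ h.zG, s * w * s⁻¹ = w * c := by
      by_cases hsA : s ∈ A
      · exact ⟨1, one_mem _, by rw [h.commG hsA (h.WG_le hw), mul_inv_cancel_right, mul_one]⟩
      · obtain ⟨a, ha, rfl⟩ := hw
        have h1 := h.zG_of_sub (h.psi_W (h.img_mem (hQS hs)) (h.img_ne (hQS hs) hsA) ha)
        rw [h.psi_img (hQS hs)] at h1
        refine ⟨_, h1, ?_⟩
        show s * (a : G) * s⁻¹ = (a : G) * (s * (a : G) * s⁻¹ * (a : G))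
        have h2 : s * (a : G) * s⁻¹ ∈ A :=
          (Subgroup.mem_normalizer_iff.mp (h.hSN (hQS hs)) _).mp a.2
        rw [h.commG (a := s * (a : G) * s⁻¹) h2 a.2, ← mul_assoc, h.sqG a.2, one_mul]
    have h1 : (m * s * m⁻¹) * (w * c') * (m * s * m⁻¹)⁻¹ = (w * c') * c := by
      rw [← hw', show m * s * m⁻¹ * (m * w * m⁻¹) * (m * s * m⁻¹)⁻¹ =
        m * (s * w * s⁻¹) * m⁻¹ by group, hsw,
        show m * (w * c) * m⁻¹ = (m * w * m⁻¹) * (m * c * m⁻¹) by group, hmc c hc]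
    have hcs : Commute c' (m * s * m⁻¹) := (h.zG_comm_S (hQS hs') hc').symm
    have h2 : (m * s * m⁻¹) * w * (m * s * m⁻¹)⁻¹ = s * w * s⁻¹ := by
      have h3 : (m * s * m⁻¹) * (w * c') * (m * s * m⁻¹)⁻¹ =
          (m * s * m⁻¹) * w * (m * s * m⁻¹)⁻¹ * c' := by
        have h4 := hcs.inv_right.eq
        generalize m * s * m⁻¹ = M at h4 ⊢
        simp only [mul_assoc, h4]
      rw [h3, mul_assoc w c' c, h.commG (h.WG_le (h.zG_le_WG hc')) (h.WG_le (h.zG_le_WG hc)),
        ← mul_assoc w c c'] at h1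
      rw [hsw]
      exact mul_right_cancel h1
    rw [hd]
    calc s⁻¹ * (m * s * m⁻¹) * w
        = s⁻¹ * ((m * s * m⁻¹) * w * (m * s * m⁻¹)⁻¹) * (m * s * m⁻¹) := by group
      _ = s⁻¹ * (s * w * s⁻¹) * (m * s * m⁻¹) := by rw [h2]
      _ = w * (s⁻¹ * (m * s * m⁻¹)) := by group
  obtain ⟨c, hc, hdm⟩ := hmW d hdW
  refine ⟨c, hc, ?_⟩
  calc n * (n * (n * (n * s * n⁻¹) * n⁻¹) * n⁻¹) * n⁻¹ = m * (m * s * m⁻¹) * m⁻¹ := by
        rw [hm]; group
    _ = m * (s * d) * m⁻¹ := by rw [hd]; group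
    _ = (m * s * m⁻¹) * (m * d * m⁻¹) := by group
    _ = s * (d * d) * c := by rw [hdm, hd]; group
    _ = s * c := by rw [h.sqG (h.WG_le hdW), mul_one]

end Setting

end CfsgLib.EightType55
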