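import Cfsg.Agent.EightType55.Central

/-!
The quotient of the index-two subgroup of `C(z)` by its centre, and the normality of `A` in
`C(z)` modulo the odd core.
-/

set_option autoImplicit false
set_option linter.style.haveILetI false
set_option linter.unusedSectionVars false

universe u

namespace CfsgLib.EightType55

open Cfsg
open CfsgLib.StronglyEmbedded (orderOf_two_iff)

variable {G : Type u} [Group G] [Finite G] {A : Subgroup G}

local instance : Fact (Nat.Prime 2) := ⟨Nat.prime_two⟩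

namespace Setting

variable (h : Setting A)

include h in
theorem exists_v : ∃ v ∈ A, v ∉ h.WG := by
  obtain ⟨a, ha⟩ := (Set.ne_univ_iff_exists_notMem (h.W : Set A)).mp fun e => by
    have := h.index_W
    rw [show h.W = ⊤ from SetLike.coe_injective e, Subgroup.index_top] at this
    omega
  exact ⟨a, a.2, fun hW => ha ((h.mem_WG a.2).mp hW)⟩

include h in
/-- `W` is normal modulo the odd core in the subgroup of index two. -/
theorem decomp_K {Q K : Subgroup G} (hK : K ≤ cen (h.z : G))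
    (hKn : ∀ l ∈ cen (h.z : G), ∀ k ∈ K, l * k * l⁻¹ ∈ K)
    (hQS : Q ≤ (h.S : Subgroup G)) (hWQ : h.WG ≤ Q) (hQA : ∀ x ∈ Q, x ∈ A → x ∈ h.WG)
    (hQ2 : ∀ x ∈ Q, x * x ∈ h.zG) {u : G} (huQ : u ∈ Q) (huA : u ∉ A) (hu2 : u * u = 1)
    (hsyl : IsSyl K Q) {g w : G} (hg : g ∈ K) (hw : w ∈ h.WG) :
    g * w * g⁻¹ ∈ h.WG ⊔ coreOf (cen (h.z : G)) := by
  have hzK : (h.z : G) ∈ K := hsyl.1 (hWQ h.z_mem_WG)
  set z' : K := ⟨h.z, hzK⟩ with hz'
  have hzc : ∀ y : K, y * z' = z' * y := fun y =>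
    Subtype.ext (Subgroup.mem_centralizer_singleton_iff.mp (hK y.2))
  have hz2 : z' * z' = 1 := Subtype.ext (h.sqG h.z.2)
  set Z : Subgroup K := Subgroup.zpowers z' with hZ
  haveI : Z.Normal := ⟨fun y hy k => by
    obtain ⟨i, rfl⟩ := hy
    rw [show k * (fun j : ℤ => z' ^ j) i * k⁻¹ = z' ^ i by
      show k * z' ^ i * k⁻¹ = z' ^ i
      rw [((show Commute k z' from hzc k).zpow_right i).eq, mul_inv_cancel_right]]
    exact ⟨i, rfl⟩⟩
  have hZmem : ∀ x : K, x ∈ Z ↔ (x : G) ∈ h.zG := fun x => by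
    refine ⟨fun ⟨i, hi⟩ => ⟨i, by rw [← hi]; simp [hz']⟩, fun hx => ?_⟩
    rcases h.mem_zG.mp hx with e | e
    · rw [show x = 1 from Subtype.ext e]; exact one_mem _
    · rw [show x = z' from Subtype.ext e]; exact Subgroup.mem_zpowers _
  set f := QuotientGroup.mk' Z with hf
  have hfeq : ∀ x y : K, f x = f y ↔ (x : G)⁻¹ * y ∈ h.zG := fun x y => by
    rw [hf, QuotientGroup.mk'_apply, QuotientGroup.mk'_apply, QuotientGroup.eq, hZmem]
    rfl
  obtain ⟨T, hT⟩ := hsyl.exists_sylow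
  have hmem : ∀ x : K, x ∈ (T : Subgroup K) ↔ (x : G) ∈ Q := fun x => by rw [hT]; rfl
  have hzQ : h.zG ≤ Q := h.zG_le_WG.trans hWQ
  set Tb : Sylow 2 (K ⧸ Z) := T.mapSurjective (QuotientGroup.mk'_surjective Z) with hTb
  have hTbe : (Tb : Subgroup (K ⧸ Z)) = (T : Subgroup K).map f := Sylow.coe_mapSurjective _ _
  have hfQ : ∀ x : K, f x ∈ (Tb : Subgroup (K ⧸ Z)) ↔ (x : G) ∈ Q := fun x => by
    rw [hTbe]
    refine ⟨fun ⟨y, hy, e⟩ => ?_, fun hx => ⟨x, (hmem x).mpr hx, rfl⟩⟩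
    have h1 := mul_mem ((hmem y).mp hy) (hzQ ((hfeq y x).mp e))
    rwa [mul_inv_cancel_left] at h1
  have hsq : ∀ t ∈ (Tb : Subgroup (K ⧸ Z)), t * t = 1 := by
    rw [hTbe]
    rintro _ ⟨y, hy, rfl⟩
    rw [← map_mul, ← map_one f, hfeq]
    simpa using h.zG.inv_mem (hQ2 _ ((hmem y).mp hy))
  have hcomm : ∀ a ∈ (Tb : Subgroup (K ⧸ Z)), ∀ b ∈ (Tb : Subgroup (K ⧸ Z)), a * b = b * a := by
    intro a ha b hb
    have h1 := hsq _ (mul_mem ha hb)
    rw [← inv_eq_of_mul_eq_one_right h1, mul_inv_rev, inv_eq_of_mul_eq_one_right (hsq a ha),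
      inv_eq_of_mul_eq_one_right (hsq b hb)]
  have hel : IsElementaryAbelian 2 (Tb : Subgroup (K ⧸ Z)) :=
    LocalP.isElementaryAbelian_iff.mpr ⟨hcomm, fun a ha => by rw [sq]; exact hsq a ha⟩
  -- elements of the hyperplane
  obtain ⟨a₀, ha₀, ha₀z⟩ : ∃ a ∈ h.WG, a ∉ h.zG := by
    by_contra hno
    push Not at hno
    have h1 := Subgroup.card_le_of_le (H := h.WG) (K := h.zG) hno
    rw [Setting.WG, Subgroup.card_map_of_injective A.subtype_injective, h.card_W, Setting.zG,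
      Nat.card_zpowers, orderOf_eq_prime (p := 2) (by rw [sq]; exact h.sqG h.z.2)
      (fun e => h.z_ne (Subtype.ext e))] at h1
    omega
  obtain ⟨b₀, hb₀, hb₀1⟩ : ∃ b ∈ h.WG, b ∉ h.zG ∧ a₀⁻¹ * b ∉ h.zG := by
    by_contra hno
    push Not at hno
    have hsub : (h.WG : Set G) ⊆ ({1, (h.z : G), a₀, a₀ * h.z} : Set G) := by
      intro b hb
      simp only [Set.mem_insert_iff, Set.mem_singleton_iff]
      by_cases hbz : b ∈ h.zG
      · rcases h.mem_zG.mp hbz with e | e <;> simp [e]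
      · rcases h.mem_zG.mp (hno b hb hbz) with e | e
        · exact Or.inr (Or.inr (Or.inl (inv_mul_eq_one.mp e).symm))
        · exact Or.inr (Or.inr (Or.inr (inv_mul_eq_iff_eq_mul.mp e)))
    have h1 := Nat.card_mono (Set.toFinite _) hsub
    rw [show Nat.card (h.WG : Set G) = 8 by
      show Nat.card h.WG = 8
      rw [Setting.WG, Subgroup.card_map_of_injective A.subtype_injective, h.card_W],
      Nat.card_coe_set_eq] at h1
    have := (Set.ncard_insert_le (1 : G) {(h.z : G), a₀, a₀ * h.z}).trans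
      (Nat.add_le_add_right ((Set.ncard_insert_le _ _).trans
        (Nat.add_le_add_right ((Set.ncard_insert_le _ _).trans
          (by rw [Set.ncard_singleton])) 1)) 1)
    omega
  obtain ⟨hb₀z, hab⟩ := hb₀1
  set a' : K := ⟨a₀, hsyl.1 (hWQ ha₀)⟩
  set b' : K := ⟨b₀, hsyl.1 (hWQ hb₀)⟩
  set u' : K := ⟨u, hsyl.1 huQ⟩
  have hne1 : ∀ x : K, (x : G) ∉ h.zG → f x ≠ 1 := fun x hx e => hx (by
    rw [← map_one f, hfeq] at e
    simpa using h.zG.inv_mem e)
  have h8 : 2 ^ 3 ≤ Nat.card (Tb : Subgroup (K ⧸ Z)) := by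
    obtain ⟨k, hk⟩ := IsPGroup.iff_card.mp Tb.2
    rw [hk]
    refine Nat.pow_le_pow_right (by norm_num) ?_
    by_contra hlt
    have h4 : Nat.card (Tb : Subgroup (K ⧸ Z)) ≤ 4 := by
      rw [hk]
      exact (Nat.pow_le_pow_right (by norm_num) (show k ≤ 2 by omega)).trans (by norm_num)
    have hune : ∀ x : K, (x : G) ∈ A → f x ≠ f u' := fun x hx e => huA (by
      have := mul_mem hx (h.WG_le (h.zG_le_WG ((hfeq x u').mp e)))
      rwa [mul_inv_cancel_left] at this)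
    have habne : f a' ≠ f b' := fun e => hab ((hfeq a' b').mp e)
    classical
    have h5 : ({1, f a', f b', f (a' * b'), f u'} : Finset (K ⧸ Z)).card = 5 := by
      rw [Finset.card_insert_of_notMem, Finset.card_insert_of_notMem, Finset.card_insert_of_notMem,
        Finset.card_insert_of_notMem, Finset.card_singleton]
      · simp only [Finset.mem_singleton]
        exact hune (a' * b') (mul_mem (h.WG_le ha₀) (h.WG_le hb₀))
      · simp only [Finset.mem_insert, Finset.mem_singleton, not_or]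
        refine ⟨fun e => hne1 a' ha₀z ?_, hune b' (h.WG_le hb₀)⟩
        rwa [map_mul, right_eq_mul] at e
      · simp only [Finset.mem_insert, Finset.mem_singleton, not_or]
        refine ⟨habne, fun e => hne1 b' hb₀z ?_, hune a' (h.WG_le ha₀)⟩
        rwa [map_mul, left_eq_mul] at e
      · simp only [Finset.mem_insert, Finset.mem_singleton, not_or]
        refine ⟨(hne1 a' ha₀z).symm, (hne1 b' hb₀z).symm, fun e => habne ?_,
          by simpa using hune 1 (one_mem A)⟩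
        rw [map_mul] at e
        have h6 : f a' ∈ (Tb : Subgroup (K ⧸ Z)) := (hfQ a').mpr (hWQ ha₀)
        rw [← inv_eq_of_mul_eq_one_right e.symm, inv_eq_of_mul_eq_one_right (hsq _ h6)]
    have h6 : (↑({1, f a', f b', f (a' * b'), f u'} : Finset (K ⧸ Z)) : Set (K ⧸ Z)) ⊆
        (Tb : Subgroup (K ⧸ Z)) := by
      simp only [Finset.coe_insert, Finset.coe_singleton, Set.insert_subset_iff,
        Set.singleton_subset_iff]
      exact ⟨one_mem _, (hfQ a').mpr (hWQ ha₀), (hfQ b').mpr (hWQ hb₀),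
        (hfQ (a' * b')).mpr (mul_mem (hWQ ha₀) (hWQ hb₀)), (hfQ u').mpr huQ⟩
    have h7 := Nat.card_mono (Set.toFinite _) h6
    rw [Nat.card_coe_set_eq, Set.ncard_coe_finset, h5] at h7
    have : (5 : ℕ) ≤ Nat.card (Tb : Subgroup (K ⧸ Z)) := h7
    omega
  -- no fixed points
  have hfpf : ∀ n ∈ Subgroup.normalizer ((Tb : Subgroup (K ⧸ Z)) : Set (K ⧸ Z)),
      ∀ t ∈ (Tb : Subgroup (K ⧸ Z)), t ≠ 1 → n * t = t * n →
      n ∈ Subgroup.centralizer ((Tb : Subgroup (K ⧸ Z)) : Set (K ⧸ Z)) := by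
    intro n hn t ht ht1 hnt
    obtain ⟨n', rfl⟩ := QuotientGroup.mk'_surjective Z n
    obtain ⟨t', rfl⟩ := QuotientGroup.mk'_surjective Z t
    refine centralizes_of_two_pow Tb hcomm hn (k := 2) ?_
    rw [Subgroup.mem_centralizer_iff]
    intro s hs
    obtain ⟨s', rfl⟩ := QuotientGroup.mk'_surjective Z s
    have hnQ : ∀ x ∈ Q, (n' : G) * x * (n' : G)⁻¹ ∈ Q := fun x hx => by
      have h1 := (Subgroup.mem_normalizer_iff.mp hn (f ⟨x, hsyl.1 hx⟩)).mp ((hfQ _).mpr hx)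
      rw [← map_inv, ← map_mul, ← map_mul] at h1
      exact (hfQ _).mp h1
    have hfix : ∃ c ∈ h.zG, (n' : G) * t' * (n' : G)⁻¹ = t' * c := by
      have h1 : f t' = f (n' * t' * n'⁻¹) := by
        rw [map_mul, map_mul, map_inv]
        exact (mul_inv_eq_iff_eq_mul.mpr hnt).symm
      refine ⟨_, (hfeq _ _).mp h1, ?_⟩
      push_cast
      rw [mul_inv_cancel_left]
    have htz : (t' : G) ∉ h.zG := fun e => ht1 (by
      rw [← map_one f]; exact ((hfeq t' 1).mpr (by simpa using h.zG.inv_mem e)))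
    obtain ⟨c, hc, hce⟩ := h.pow_four_fix hQS hWQ hQA (hK n'.2) hnQ ((hfQ t').mp ht) htz hfix
      s' ((hfQ s').mp hs)
    have h1 : f s' = f (n' ^ 4 * s' * (n' ^ 4)⁻¹) := by
      rw [hfeq]
      have e : ((n' ^ 4 * s' * (n' ^ 4)⁻¹ : K) : G) = (s' : G) * c := by
        rw [← hce]
        push_cast
        simp only [pow_succ, pow_zero, one_mul, mul_inv_rev, mul_assoc]
      rw [e, inv_mul_cancel_left]
      exact hc
    rw [map_mul, map_mul, map_inv, map_pow] at h1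
    show f s' * f n' ^ (2 ^ 2) = f n' ^ (2 ^ 2) * f s'
    norm_num
    exact eq_mul_inv_iff_mul_eq.mp h1
  have hnc : ¬ IsConj (f a') (f u') := by
    intro hcj
    obtain ⟨q, hq⟩ := isConj_iff.mp hcj
    obtain ⟨q', rfl⟩ := QuotientGroup.mk'_surjective Z q
    rw [← map_inv, ← map_mul, ← map_mul, hfeq] at hq
    push_cast at hq
    have h1 : (q' : G) * a₀ * (q' : G)⁻¹ ∈ (h.S : Subgroup G) := by
      have h2 := mul_mem (hQS huQ) (hQS (hzQ (h.zG.inv_mem hq)))
      rwa [mul_inv_rev, inv_inv, mul_inv_cancel_left] at h2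
    have h2 := mul_mem (h.mem_A_of_conj (h.WG_le ha₀) h1) (h.WG_le (h.zG_le_WG hq))
    rw [mul_inv_cancel_left] at h2
    exact huA h2
  obtain ⟨r, hr, n, hn, he⟩ := decomp_of_fpf Tb hel h8 hfpf ((hfQ a').mpr (hWQ ha₀))
    ((hfQ u').mpr huQ) (hne1 a' ha₀z) (hne1 u' (fun e => huA (h.WG_le (h.zG_le_WG e)))) hnc
    (f ⟨g, hg⟩)
  obtain ⟨n', rfl⟩ := QuotientGroup.mk'_surjective Z n
  have hr' : f (⟨g, hg⟩ * n'⁻¹) ∈ pPrimeCore 2 (K ⧸ Z) := by
    rw [map_mul, map_inv, he, mul_inv_cancel_right]; exact hr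
  obtain ⟨o, ho, c, hc, hoe⟩ := exists_mul_of_mk_mem_core hz2 hzc hr'
  have hn'w : (n' : G) * w * (n' : G)⁻¹ ∈ h.WG := by
    have h1 := (Subgroup.mem_normalizer_iff.mp hn (f ⟨w, hsyl.1 (hWQ hw)⟩)).mp ((hfQ _).mpr (hWQ hw))
    rw [← map_inv, ← map_mul, ← map_mul] at h1
    have h2 : (n' : G) * w * (n' : G)⁻¹ ∈ Q := (hfQ _).mp h1
    exact hQA _ h2 (h.mem_A_of_conj (h.WG_le hw) (hQS h2))
  have hoc : (o : G) ∈ coreOf (cen (h.z : G)) := coreOf_le_of_normal hK hKn ⟨o, ho, rfl⟩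
  have hg' : g = (o : G) * (c : G) * (n' : G) := by
    have := congrArg Subtype.val (eq_mul_inv_iff_mul_eq.mp hoe.symm)
    simpa using this.symm
  have hcw : (c : G) * ((n' : G) * w * (n' : G)⁻¹) * (c : G)⁻¹ = (n' : G) * w * (n' : G)⁻¹ := by
    rw [← h.zG_comm_S (h.hAS (h.WG_le hn'w)) ((hZmem c).mp hc), mul_inv_cancel_right]
  rw [hg', show (o : G) * c * n' * w * ((o : G) * c * n')⁻¹ =
    (o : G) * ((c : G) * ((n' : G) * w * (n' : G)⁻¹) * (c : G)⁻¹) * (o : G)⁻¹ by group, hcw]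
  exact mul_mem (mul_mem (Subgroup.mem_sup_right hoc) (Subgroup.mem_sup_left hn'w))
    (Subgroup.mem_sup_right (inv_mem hoc))

include h in
/-- `A` is normal modulo the odd core in the centralizer of the central involution. -/
theorem good_z : Good A (cen (h.z : G)) := by
  obtain ⟨v, hv, hvW⟩ := h.exists_v
  obtain ⟨Q, hQS, hWQ, hQA, hvQ, hcov, hQiff, hQ2, hQinv, u, huQ, huA, hu2⟩ := h.exists_Q hv hvW
  have hsylS : IsSyl (cen (h.z : G)) (h.S : Subgroup G) := isSyl_of_sylow h.S h.le_cen_z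
  have hAC : A ≤ cen (h.z : G) := h.hAS.trans h.le_cen_z
  -- fusion in the centralizer respects the hyperplane
  have hconjA : ∀ a ∈ A, ∀ g ∈ cen (h.z : G), g * a * g⁻¹ ∈ (h.S : Subgroup G) →
      (g * a * g⁻¹ ∈ h.WG ↔ a ∈ h.WG) := by
    intro a ha g hg hgS
    obtain ⟨n, hn, hnC, hne⟩ := h.exists_conj_normalizer hAC hg ha (h.mem_A_of_conj ha hgS)
    have hnz := Subgroup.mem_centralizer_singleton_iff.mp hnC
    rw [← hne]
    refine ⟨fun hW => ?_, h.conj_WG hn hnz⟩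
    have := h.conj_WG (inv_mem hn)
      (Subgroup.mem_centralizer_singleton_iff.mp (inv_mem hnC)) hW
    simpa [mul_assoc] using this
  obtain ⟨K, hK, hKn, hvK, hKcov, hcrit⟩ := exists_index_two' hsylS (h.hAS hv) (h.sqG hv) hvQ hQiff
    (fun g hg hgS hgQ => hvW ((hconjA v hv g hg hgS).mp (hQA _ hgQ (h.mem_A_of_conj hv hgS))))
  have hWK : h.WG ≤ K := fun w hw => (hcrit w (h.hAS (h.WG_le hw)) (h.sqG (h.WG_le hw))
    fun g hg hgS => iff_of_true (hWQ ((hconjA w (h.WG_le hw) g hg hgS).mpr hw)) (hWQ hw)).mpr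
    (hWQ hw)
  have hinvK : ∀ x ∈ (h.S : Subgroup G), x * x = 1 → x ∉ A → x ∈ K := by
    intro x hx hx2 hxA
    refine (hcrit x hx hx2 fun g _ hgS => iff_of_true ?_ (hQinv x hx hx2 hxA)).mpr
      (hQinv x hx hx2 hxA)
    refine hQinv _ hgS ?_ fun hA => h.not_isConj hx hxA hA (isConj_iff.mpr ⟨g, rfl⟩)
    rw [show g * x * g⁻¹ * (g * x * g⁻¹) = g * (x * x) * g⁻¹ by group, hx2, mul_one, mul_inv_cancel]
  have hQK : Q ≤ K := by
    intro q hq
    by_cases hqA : q ∈ A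
    · exact hWK (hQA q hq hqA)
    obtain ⟨e, he, he2, heg⟩ := h.exists_inv (h.img_mem (hQS hq)) (h.img_ne (hQS hq) hqA)
    have heA : e ∉ A := fun hA => h.img_ne (hQS hq) hqA (by
      rw [← heg]; exact (h.img_eq_one he).mpr hA)
    have hw : e * q ∈ A := by
      rw [← h.img_eq_one (mul_mem he (hQS hq)), h.img_mul he (hQS hq), heg,
        four_mul_self (h.img_mem _)]
    have := mul_mem (hinvK e he he2 heA) (hWK (hQA _ (mul_mem (hQinv e he he2 heA) hq) hw))
    rwa [← mul_assoc, he2, one_mul] at this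
  have hKS : ∀ x ∈ (h.S : Subgroup G), x ∈ K → x ∈ Q := fun x hx hxK =>
    (hcov x hx).elim id fun hxv => absurd (by
      simpa using mul_mem (inv_mem hxK) (hQK hxv) : v ∈ K) hvK
  have hsyl : IsSyl K Q := by
    refine ⟨hQK, h.S.2.to_le hQS, fun P hP hP2 hQP => ?_⟩
    obtain ⟨l, hl, hlP⟩ := hsylS.exists_conj (hP.trans hK) hP2
    have hle : P.map (MulAut.conj l).toMonoidHom ≤ Q := by
      rintro _ ⟨x, hx, rfl⟩
      exact hKS _ (hlP x hx) (hKn l hl x (hP hx))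
    refine (Subgroup.eq_of_le_of_card_ge hQP ?_).ge
    calc Nat.card P = Nat.card (P.map (MulAut.conj l).toMonoidHom) :=
          (Subgroup.card_map_of_injective (MulAut.conj l).injective).symm
      _ ≤ Nat.card Q := Subgroup.card_le_of_le hle
  have hgoodK : ∀ g ∈ K, ∀ w ∈ h.WG, g * w * g⁻¹ ∈ h.WG ⊔ coreOf (cen (h.z : G)) :=
    fun g hg w hw => h.decomp_K hK hKn hQS hWQ hQA hQ2 huQ huA hu2 hsyl hg hw
  have hgoodW : Good h.WG (cen (h.z : G)) := by
    intro g hg w hw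
    rcases hKcov g hg with hgK | hgK
    · exact hgoodK g hgK w hw
    · have h1 := hgoodK _ hgK w hw
      rwa [show g * v * w * (g * v)⁻¹ = g * (v * w * v⁻¹) * g⁻¹ by group,
        h.commG hv (h.WG_le hw), mul_inv_cancel_right] at h1
  set D := Subgroup.centralizer (h.WG : Set G) with hD
  have hDH : D ≤ cen (h.z : G) := fun x hx => Subgroup.mem_centralizer_singleton_iff.mpr
    (Subgroup.mem_centralizer_iff.mp hx _ h.z_mem_WG).symm
  have hdec := fun g hg => hgoodW.decomp (h.isPGroupA.to_le h.WG_le) (h.WG_le.trans hAC) (g := g) hg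
  have hDn : ∀ n ∈ Subgroup.normalizer (h.WG : Set G), ∀ x ∈ D, n * x * n⁻¹ ∈ D := by
    intro n hn x hx
    rw [hD, Subgroup.mem_centralizer_iff]
    intro w hw
    have hw' : n⁻¹ * w * n ∈ h.WG := by
      simpa using (Subgroup.mem_normalizer_iff.mp (inv_mem hn) w).mp hw
    calc w * (n * x * n⁻¹) = n * ((n⁻¹ * w * n) * x) * n⁻¹ := by group
      _ = n * (x * (n⁻¹ * w * n)) * n⁻¹ := by rw [Subgroup.mem_centralizer_iff.mp hx _ hw']
      _ = n * x * n⁻¹ * w := by group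
  have hcore : coreOf D ≤ coreOf (cen (h.z : G)) := by
    refine le_coreOf_of_decomp ((coreOf_le D).trans hDH) (odd_coreOf D)
      (N₀ := {n | n ∈ Subgroup.normalizer (h.WG : Set G) ∧ n ∈ cen (h.z : G)}) ?_
      (fun n hn => hn.2) fun g hg => ?_
    · exact fun n hn r hr => conj_mem_coreOf_of_normalizes (hDn n hn.1)
        (fun k hk => by simpa using hDn n⁻¹ (inv_mem hn.1) k hk) hr
    · obtain ⟨d, hd, n, hn, hnH, e⟩ := hdec g hg
      exact ⟨d, hd, n, ⟨hn, hnH⟩, e⟩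
  intro g hg a ha
  obtain ⟨r, hr, n, hn, hnH, rfl⟩ := hdec g hg
  have haD : a ∈ D := Subgroup.mem_centralizer_iff.mpr fun w hw => h.commG (h.WG_le hw) ha
  obtain ⟨o, ho, a', ha', he⟩ := h.centralizer_WG _ (hDn n hn a haD)
  rw [show r * n * a * (r * n)⁻¹ = r * (n * a * n⁻¹) * r⁻¹ by group, he]
  exact mul_mem (mul_mem (Subgroup.mem_sup_right hr) (mul_mem (Subgroup.mem_sup_right (hcore ho))
    (Subgroup.mem_sup_left ha'))) (Subgroup.mem_sup_right (inv_mem hr))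

end Setting

end CfsgLib.EightType55
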