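import Cfsg.Agent.EightType55.Abelian
import Cfsg.Agent.FusionTwo.Common
import Cfsg.Agent.StrongEmb.NoOdd

/-!
General lemmas: cores of subgroups, complements, transfer to a group of order two, central
quotients by an involution.
-/

set_option autoImplicit false
set_option linter.style.haveILetI false
set_option linter.unusedSectionVars false

universe u

namespace CfsgLib.EightType55

open Cfsg
open CfsgLib.StronglyEmbedded (orderOf_two_iff)

variable {G : Type u} [Group G] [Finite G]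

local instance : Fact (Nat.Prime 2) := ⟨Nat.prime_two⟩

/-! ### Cores -/

theorem conj_mem_coreOf_of_normalizes {K : Subgroup G} {g r : G}
    (hg : ∀ k ∈ K, g * k * g⁻¹ ∈ K) (hg' : ∀ k ∈ K, g⁻¹ * k * g ∈ K) (hr : r ∈ coreOf K) :
    g * r * g⁻¹ ∈ coreOf K := by
  refine le_coreOf (R := (coreOf K).map (MulAut.conj g).toMonoidHom) ?_ ?_ ?_ ⟨r, hr, rfl⟩
  · rintro _ ⟨s, hs, rfl⟩; exact hg s (coreOf_le K hs)
  · rintro k hk _ ⟨s, hs, rfl⟩
    refine ⟨(g⁻¹ * k * g) * s * (g⁻¹ * k * g)⁻¹, conj_mem_coreOf (hg' k hk) hs, ?_⟩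
    show g * _ * g⁻¹ = k * (g * s * g⁻¹) * k⁻¹
    group
  · rw [Subgroup.card_map_of_injective (MulAut.conj g).injective]
    exact odd_coreOf K

theorem coreOf_le_of_normal {K H : Subgroup G} (hKH : K ≤ H)
    (hn : ∀ h ∈ H, ∀ k ∈ K, h * k * h⁻¹ ∈ K) : coreOf K ≤ coreOf H :=
  le_coreOf (le_trans (coreOf_le K) hKH) (fun h hh r hr => conj_mem_coreOf_of_normalizes (hn h hh)
    (fun k hk => by simpa using hn h⁻¹ (inv_mem hh) k hk) hr) (odd_coreOf K)

theorem coreOf_le_pPrimeCore {K : Subgroup G} (hn : K.Normal) : coreOf K ≤ pPrimeCore 2 G :=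
  Constrained.le_pPrimeCore_of_not_dvd
    ⟨fun _ hr g => conj_mem_coreOf_of_normalizes (fun k hk => hn.conj_mem k hk g)
      (fun k hk => by simpa using hn.conj_mem k hk g⁻¹) hr⟩
    (not_two_dvd_of_odd (odd_coreOf K))

/-- An odd subgroup normalised by a supplement of the core lies in the core. -/
theorem le_coreOf_of_decomp {H R₀ : Subgroup G} (hR : R₀ ≤ H) (ho : Odd (Nat.card R₀))
    {N₀ : Set G} (hN : ∀ n ∈ N₀, ∀ r ∈ R₀, n * r * n⁻¹ ∈ R₀) (hN₀ : N₀ ⊆ H)
    (hdec : ∀ g ∈ H, ∃ d ∈ coreOf H, ∃ n ∈ N₀, g = d * n) : R₀ ≤ coreOf H := by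
  have hn0 : ∀ a ∈ R₀, ∀ d ∈ coreOf H, a * d * a⁻¹ ∈ coreOf H := fun a ha d hd =>
    conj_mem_coreOf (hR ha) hd
  have hnorm : R₀ ≤ Subgroup.normalizer (coreOf H : Set G) := fun a ha =>
    ExtremelyClosed.mem_normalizer_of_conj_mem (hn0 a ha)
  refine le_trans le_sup_left (le_coreOf (R := R₀ ⊔ coreOf H) (sup_le hR (coreOf_le H)) ?_
    (StrongEmb.NoOdd.odd_card_sup (odd_coreOf H) ho hnorm))
  intro g hg x hx
  obtain ⟨d, hd, n, hn, rfl⟩ := hdec g hg
  obtain ⟨r, hr, e, he, rfl⟩ := exists_mul_of_mem_sup hn0 hx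
  rw [show d * n * (r * e) * (d * n)⁻¹ = d * ((n * r * n⁻¹) * (n * e * n⁻¹)) * d⁻¹ by group]
  exact mul_mem (mul_mem (Subgroup.mem_sup_right hd) (mul_mem (Subgroup.mem_sup_left (hN n hn r hr))
    (Subgroup.mem_sup_right (conj_mem_coreOf (hN₀ hn) he)))) (Subgroup.mem_sup_right (inv_mem hd))

theorem Good.conj {A : Subgroup G} {a n : G} (h : Good A (cen a))
    (hn : n ∈ Subgroup.normalizer (A : Set G)) : Good A (cen (n * a * n⁻¹)) := by
  intro g hg b hb
  have hgc : n⁻¹ * g * n ∈ cen a := by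
    have h1 := Subgroup.mem_centralizer_singleton_iff.mp hg
    rw [Subgroup.mem_centralizer_singleton_iff,
      show n⁻¹ * g * n * a = n⁻¹ * (g * (n * a * n⁻¹)) * n by group, h1]
    group
  have hbn : n⁻¹ * b * n ∈ A := by
    have := (Subgroup.mem_normalizer_iff.mp (inv_mem hn) b).mp hb
    simpa using this
  have key : A ⊔ coreOf (cen a) ≤
      (A ⊔ coreOf (cen (n * a * n⁻¹))).comap (MulAut.conj n).toMonoidHom :=
    sup_le (fun c hc => Subgroup.mem_sup_left ((Subgroup.mem_normalizer_iff.mp hn c).mp hc))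
      fun r hr => Subgroup.mem_sup_right (conj_mem_coreOf_cen hr)
  have h2 : n * ((n⁻¹ * g * n) * (n⁻¹ * b * n) * (n⁻¹ * g * n)⁻¹) * n⁻¹ ∈
      A ⊔ coreOf (cen (n * a * n⁻¹)) := key (h _ hgc _ hbn)
  convert h2 using 1
  group

/-! ### Burnside -/

theorem good_of_complement' {L P : Subgroup G} (hP : IsSyl L P)
    (hfix : ∀ n ∈ L, n ∈ Subgroup.normalizer (P : Set G) →
      n ∈ Subgroup.centralizer (P : Set G)) :
    ∀ c ∈ L, ∃ r ∈ coreOf L, ∃ s ∈ P, c = r * s := by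
  obtain ⟨TC, hTC⟩ := hP.exists_sylow
  have hmem : ∀ x : L, x ∈ (TC : Subgroup L) ↔ (x : G) ∈ P := fun x => by rw [hTC]; rfl
  have hb : Subgroup.normalizer ((TC : Subgroup L) : Set L) ≤
      Subgroup.centralizer ((TC : Subgroup L) : Set L) := by
    intro x hx
    rw [Subgroup.mem_centralizer_iff]
    intro y hy
    have hxN : (x : G) ∈ Subgroup.normalizer (P : Set G) :=
      ExtremelyClosed.mem_normalizer_of_conj_mem fun z hz =>
        (hmem _).mp ((Subgroup.mem_normalizer_iff.mp hx ⟨z, hP.1 hz⟩).mp ((hmem _).mpr hz))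
    exact Subtype.ext
      (Subgroup.mem_centralizer_iff.mp (hfix x x.2 hxN) (y : G) ((hmem y).mp hy))
  obtain ⟨N, hN, hcompl⟩ := Transfer.exists_isComplement'
    (Transfer.hasNormalPComplement_of_normalizer_le_centralizer TC hb) TC
  have hN2 : ¬ 2 ∣ Nat.card N := by
    rw [← Subgroup.IsComplement'.index_eq_card hcompl]
    exact TC.not_dvd_index
  intro c hc
  have hcN : (⟨c, hc⟩ : L) ∈ ((N ⊔ (TC : Subgroup L) : Subgroup L) : Set L) := by
    rw [hcompl.sup_eq_top]; trivial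
  haveI := hN
  rw [Subgroup.normal_mul] at hcN
  obtain ⟨r, hr, s, hs, he⟩ := hcN
  exact ⟨r, ⟨r, Constrained.le_pPrimeCore_of_not_dvd hN hN2 hr, rfl⟩, s, (hmem s).mp hs,
    (congrArg Subtype.val he).symm⟩

theorem centralizes_of_two_pow (T : Sylow 2 G)
    (hcom : ∀ a ∈ (T : Subgroup G), ∀ b ∈ (T : Subgroup G), a * b = b * a) {n : G}
    (hn : n ∈ Subgroup.normalizer ((T : Subgroup G) : Set G)) {k : ℕ}
    (hk : n ^ (2 ^ k) ∈ Subgroup.centralizer ((T : Subgroup G) : Set G)) :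
    n ∈ Subgroup.centralizer ((T : Subgroup G) : Set G) := by
  set C := Subgroup.centralizer ((T : Subgroup G) : Set G)
  obtain ⟨u, v, hu, hv, huv, ⟨j, hj⟩, hv2⟩ := Transfer.exists_pPart_decomposition (p := 2) n
  have huN : u ∈ Subgroup.normalizer ((T : Subgroup G) : Set G) := Subgroup.zpowers_le.mpr hn hu
  have hle : Subgroup.zpowers u ≤ Subgroup.normalizer ((T : Subgroup G) : Set G) :=
    Subgroup.zpowers_le.mpr huN
  have huT : u ∈ (T : Subgroup G) := by
    have hp : IsPGroup 2 (Subgroup.zpowers u) :=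
      IsPGroup.of_card (n := (((Nat.dvd_prime_pow Nat.prime_two).mp hj).choose))
        (by rw [Nat.card_zpowers]; exact ((Nat.dvd_prime_pow Nat.prime_two).mp hj).choose_spec.2)
    have h2 : IsPGroup 2 ↥(Subgroup.zpowers u ⊔ (T : Subgroup G)) :=
      IsPGroup.to_sup_of_normal_right' hp T.2 hle
    exact (T.is_maximal' h2 le_sup_right).le (Subgroup.mem_sup_left (Subgroup.mem_zpowers u))
  have huC : u ∈ C := Subgroup.mem_centralizer_iff.mpr fun a ha => hcom a ha u huT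
  have hcomm : Commute u v := by
    obtain ⟨a, rfl⟩ := hu
    obtain ⟨b, rfl⟩ := hv
    exact ((Commute.refl n).zpow_left a).zpow_right b
  rw [huv, hcomm.mul_pow] at hk
  have hvk : v ^ (2 ^ k) ∈ C := by
    have := mul_mem (inv_mem (pow_mem huC (2 ^ k))) hk
    rwa [inv_mul_cancel_left] at this
  obtain ⟨m, hm⟩ := exists_pow_eq_self_of_coprime
    (show (2 ^ k).Coprime (orderOf v) from
      ((Nat.coprime_two_left.mpr (Nat.coprime_two_right.mp hv2))).pow_left k)
  rw [huv]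
  exact mul_mem huC (hm ▸ pow_mem hvk m)

/-! ### An automorphism of a group of order four -/

theorem fix_twice {V : Type*} [Group V] [Finite V] (h4 : Nat.card V = 4) (σ : V → V)
    (hσ : Function.Injective σ) {x : V} (hx1 : x ≠ 1) (h1 : σ 1 = 1) (hx : σ x = x) (y : V) :
    σ (σ y) = y := by
  classical
  haveI := Fintype.ofFinite V
  rw [Nat.card_eq_fintype_card] at h4
  by_cases hy : y = 1 ∨ y = x
  · rcases hy with rfl | rfl
    · rw [h1, h1]
    · rw [hx, hx]
  rw [not_or] at hy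
  by_contra hne
  have e1 : σ y ≠ 1 := fun e => hy.1 (hσ (e.trans h1.symm))
  have e2 : σ y ≠ x := fun e => hy.2 (hσ (e.trans hx.symm))
  have e3 : σ y ≠ y := fun e => hne (by rw [e, e])
  have e4 : σ (σ y) ≠ 1 := fun e => e1 (hσ (e.trans h1.symm))
  have e5 : σ (σ y) ≠ x := fun e => e2 (hσ (e.trans hx.symm))
  have e6 : σ (σ y) ≠ σ y := fun e => e3 (hσ e)
  have hc : ({1, x, y, σ y, σ (σ y)} : Finset V).card = 5 := by
    rw [Finset.card_insert_of_notMem, Finset.card_insert_of_notMem, Finset.card_insert_of_notMem,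
      Finset.card_insert_of_notMem, Finset.card_singleton]
    · simp [Ne.symm e6]
    · simp [Ne.symm e3, Ne.symm hne]
    · simp [Ne.symm hy.2, Ne.symm e2, Ne.symm e5]
    · simp [Ne.symm hx1, Ne.symm hy.1, Ne.symm e1, Ne.symm e4]
  have := Finset.card_le_univ ({1, x, y, σ y, σ (σ y)} : Finset V)
  omega

/-! ### Transfer into a group of order two -/

/-- A subgroup of index two of a Sylow subgroup, respected by fusion of involutions, extends. -/
theorem exists_index_two (S : Sylow 2 G) (Q : Subgroup G) {v : G} (hv : v ∈ (S : Subgroup G))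
    (hv2 : v * v = 1) (hvQ : v ∉ Q)
    (hQ : ∀ a ∈ (S : Subgroup G), ∀ b ∈ (S : Subgroup G), (a * b ∈ Q ↔ (a ∈ Q ↔ b ∈ Q)))
    (hvf : ∀ g : G, g * v * g⁻¹ ∈ (S : Subgroup G) → g * v * g⁻¹ ∉ Q) :
    ∃ K : Subgroup G, K.Normal ∧ v ∉ K ∧
      (∀ g : G, g ∈ K ∨ g * v ∈ K) ∧
      ∀ x ∈ (S : Subgroup G), x * x = 1 →
        (∀ g : G, g * x * g⁻¹ ∈ (S : Subgroup G) → (g * x * g⁻¹ ∈ Q ↔ x ∈ Q)) →
        (x ∈ K ↔ x ∈ Q) := by
  classical
  set c : Multiplicative (ZMod 2) := Multiplicative.ofAdd 1 with hc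
  have hc2 : c * c = 1 := by decide
  have hc1 : c ≠ 1 := by decide
  have h1Q : (1 : G) ∈ Q := one_mem Q
  let φ : (S : Subgroup G) →* Multiplicative (ZMod 2) :=
    { toFun := fun x => if (x : G) ∈ Q then 1 else c
      map_one' := by simp
      map_mul' := fun a b => by
        have h := hQ a a.2 b b.2
        by_cases ha : (a : G) ∈ Q <;> by_cases hb : (b : G) ∈ Q <;> simp [ha, hb, h, hc2] }
  have hφ : ∀ x : (S : Subgroup G), φ x = if (x : G) ∈ Q then 1 else c := fun x => rfl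
  have hodd : Odd (S : Subgroup G).index := by
    rw [← Nat.not_even_iff_odd, even_iff_two_dvd]
    exact S.not_dvd_index
  have hV : ∀ x (hx : x ∈ (S : Subgroup G)), x * x = 1 →
      (∀ g : G, g * x * g⁻¹ ∈ (S : Subgroup G) → (g * x * g⁻¹ ∈ Q ↔ x ∈ Q)) →
      MonoidHom.transfer φ x = if x ∈ Q then 1 else c := by
    intro x hx hx2 hf
    have hpow : ∀ {M : Type u} [Monoid M] (y : M), y * y = 1 → ∀ m : ℕ,
        y ^ m = if Even m then 1 else y := by
      intro M _ y hy m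
      obtain ⟨k, rfl | rfl⟩ := Nat.even_or_odd' m
      · rw [pow_mul, sq, hy, one_pow, if_pos (even_two_mul k)]
      · rw [pow_succ, pow_mul, sq, hy, one_pow, one_mul,
          if_neg (Nat.not_even_iff_odd.mpr ⟨k, rfl⟩)]
    have hd2 : φ ⟨x, hx⟩ * φ ⟨x, hx⟩ = 1 := by
      rw [← map_mul, show (⟨x, hx⟩ * ⟨x, hx⟩ : (S : Subgroup G)) = 1 from Subtype.ext hx2, map_one]
    have hpc : ∀ m : ℕ, φ ⟨x, hx⟩ ^ m = if Even m then 1 else φ ⟨x, hx⟩ := by
      intro m
      obtain ⟨k, rfl | rfl⟩ := Nat.even_or_odd' m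
      · rw [pow_mul, sq, hd2, one_pow, if_pos (even_two_mul k)]
      · rw [pow_succ, pow_mul, sq, hd2, one_pow, one_mul,
          if_neg (Nat.not_even_iff_odd.mpr ⟨k, rfl⟩)]
    have key := FusionTwo.transfer_eq_pow_index (S : Subgroup G) φ ⟨x, hx⟩ (fun t m hm => by
      rw [hpc m]
      by_cases hm2 : Even m
      · rw [if_pos hm2]
        rw [show (⟨_, hm⟩ : (S : Subgroup G)) = 1 from Subtype.ext (by
          show t⁻¹ * x ^ m * t = 1
          rw [hpow x hx2, if_pos hm2, mul_one, inv_mul_cancel]), map_one]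
      · rw [if_neg hm2]
        have e : t⁻¹ * x ^ m * t = t⁻¹ * x * t⁻¹⁻¹ := by
          rw [hpow x hx2, if_neg hm2, inv_inv]
        have hiff := hf t⁻¹ (e ▸ hm)
        rw [hφ, hφ]
        exact if_congr (show t⁻¹ * x ^ m * t ∈ Q ↔ x ∈ Q by rw [e]; exact hiff) rfl rfl)
    rw [key, hpc, if_neg (Nat.not_even_iff_odd.mpr hodd), hφ]
  have hvT : MonoidHom.transfer φ v = c :=
    (hV v hv hv2 fun g hg => iff_of_false (hvf g hg) hvQ).trans (if_neg hvQ)
  refine ⟨(MonoidHom.transfer φ).ker, inferInstance, fun h => hc1 (hvT ▸ h), fun g => ?_,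
    fun x hx hx2 hf => ?_⟩
  · have key : ∀ y : Multiplicative (ZMod 2), y = 1 ∨ y * c = 1 := by decide
    rcases key (MonoidHom.transfer φ g) with e | e
    · exact Or.inl e
    · right; rw [MonoidHom.mem_ker, map_mul, hvT]; exact e
  · rw [MonoidHom.mem_ker, hV x hx hx2 hf]
    by_cases h : x ∈ Q
    · simp [h]
    · simp [h, hc1]

/-! ### Quotient by a central involution -/

theorem exists_mul_of_mk_mem_core {z : G} (hz2 : z * z = 1) (hzc : ∀ g : G, g * z = z * g)
    [(Subgroup.zpowers z).Normal] {x : G}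
    (hx : QuotientGroup.mk' (Subgroup.zpowers z) x ∈ pPrimeCore 2 (G ⧸ Subgroup.zpowers z)) :
    ∃ r ∈ pPrimeCore 2 G, ∃ s ∈ Subgroup.zpowers z, x = r * s := by
  set f := QuotientGroup.mk' (Subgroup.zpowers z)
  set L := (pPrimeCore 2 (G ⧸ Subgroup.zpowers z)).comap f with hL
  have hker : ∀ y : G, f y = 1 ↔ y ∈ Subgroup.zpowers z := fun y => QuotientGroup.eq_one_iff y
  have hzp : IsPGroup 2 (Subgroup.zpowers z) := fun y => ⟨1, by
    obtain ⟨k, hk⟩ := y.2
    refine Subtype.ext ?_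
    rw [pow_one, Subgroup.coe_pow, ← hk]
    show (z ^ k) ^ 2 = 1
    rw [sq, ← (Commute.refl z).mul_zpow, hz2, one_zpow]⟩
  have hsyl : IsSyl L (Subgroup.zpowers z) := by
    refine ⟨fun y hy => ?_, hzp, fun Q hQ hQ2 _ y hy => (hker y).mp ?_⟩
    · rw [hL, Subgroup.mem_comap, (hker y).mpr hy]; exact one_mem _
    · exact eq_one_of_mem_both (hQ2.map f) (ExtremelyClosed.odd_of_not_two_dvd
        Constrained.pPrimeCore_not_dvd) ⟨y, hy, rfl⟩ (hQ hy)
  obtain ⟨r, hr, s, hs, he⟩ := good_of_complement' hsyl (fun n _ _ => by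
    rw [Subgroup.mem_centralizer_iff]
    rintro y ⟨k, rfl⟩
    exact (((show Commute n z from hzc n).zpow_right k).eq).symm) x hx
  exact ⟨r, coreOf_le_pPrimeCore (Subgroup.Normal.comap (inferInstance) f) hr, s, hs, he⟩

end CfsgLib.EightType55
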