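import Cfsg.Agent.EightType55.Module
import Cfsg.Agent.EightType55.Generic

/-!
Weak and strong closure of `A`, conjugacy of the involutions outside `A`.
-/

set_option autoImplicit false
set_option linter.style.haveILetI false
set_option linter.unusedSectionVars false

universe u

namespace CfsgLib.EightType55

open Cfsg
open CfsgLib.StronglyEmbedded (orderOf_two_iff)

variable {G : Type u} [Group G] [Finite G] {A : Subgroup G}

local instance : Fact (Nat.Prime 2) := ⟨Nat.prime_two⟩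

theorem exists_isSyl {A L : Subgroup G} (hA : IsPGroup 2 A) (hAL : A ≤ L) :
    ∃ P : Subgroup G, IsSyl L P ∧ A ≤ P := by
  obtain ⟨P, hAP, ⟨hPL, hP2⟩, hmax⟩ := Finite.exists_le_maximal
    (p := fun Q : Subgroup G => Q ≤ L ∧ IsPGroup 2 Q) ⟨hAL, hA⟩
  exact ⟨P, ⟨hPL, hP2, fun Q hQ hQ2 hPQ => hmax ⟨hQ, hQ2⟩ hPQ⟩, hAP⟩

theorem exists_four_move {g k : A5} (hg : g ∈ fourV) (hk : k ∈ fourV) (hg1 : g ≠ 1) (hk1 : k ≠ 1) :
    ∃ x : A5, x * g * x⁻¹ = k := by
  obtain ⟨i, hi⟩ := (four_facts g hg).2.2.2.2.2.resolve_left hg1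
  obtain ⟨j, hj⟩ := (four_facts k hk).2.2.2.2.2.resolve_left hk1
  refine ⟨(t3 ^ (j : ℕ))⁻¹ * t3 ^ (i : ℕ), ?_⟩
  rw [show (t3 ^ (j : ℕ))⁻¹ * t3 ^ (i : ℕ) * g * ((t3 ^ (j : ℕ))⁻¹ * t3 ^ (i : ℕ))⁻¹ =
    (t3 ^ (j : ℕ))⁻¹ * (t3 ^ (i : ℕ) * g * (t3 ^ (i : ℕ))⁻¹) * t3 ^ (j : ℕ) by group, hi, ← hj]
  group

theorem four_mul_self {g : A5} (hg : g ∈ fourV) : g * g = 1 := (four_facts g hg).1

namespace Setting

variable (h : Setting A)

/-- The homomorphism to `A5` on a subgroup of the normaliser. -/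
noncomputable def phiOn {B : Subgroup G} (hB : B ≤ Subgroup.normalizer (A : Set G)) : B →* A5 :=
  h.φ.comp (Subgroup.inclusion hB)

theorem phiOn_apply {B : Subgroup G} (hB : B ≤ Subgroup.normalizer (A : Set G)) (b : B) :
    h.phiOn hB b = h.φ ⟨b, hB b.2⟩ := rfl

/-- The image of an element of the Sylow subgroup. -/
noncomputable def img {s : G} (hs : s ∈ (h.S : Subgroup G)) : A5 := h.φ ⟨s, h.hSN hs⟩

theorem img_mem {s : G} (hs : s ∈ (h.S : Subgroup G)) : h.img hs ∈ fourV := h.phi_mem hs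

theorem img_eq_one {s : G} (hs : s ∈ (h.S : Subgroup G)) : h.img hs = 1 ↔ s ∈ A :=
  h.phi_eq_one_iff hs

theorem img_ne {s : G} (hs : s ∈ (h.S : Subgroup G)) (hsA : s ∉ A) : h.img hs ≠ 1 :=
  mt (h.img_eq_one hs).mp hsA

theorem img_mul {s t : G} (hs : s ∈ (h.S : Subgroup G)) (ht : t ∈ (h.S : Subgroup G)) :
    h.img (mul_mem hs ht) = h.img hs * h.img ht :=
  map_mul h.φ ⟨s, h.hSN hs⟩ ⟨t, h.hSN ht⟩

theorem mem_fix_iff {s : G} (hs : s ∈ (h.S : Subgroup G)) (a : A) :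
    a ∈ h.fixA (h.img hs) ↔ s * a = a * s := by
  rw [mem_fixA]
  refine ⟨fun e => ?_, fun e => Subtype.ext ?_⟩
  · have := h.act_apply' (h.hSN hs) a
    rw [show h.φ ⟨s, _⟩ = h.img hs from rfl, e] at this
    exact mul_inv_eq_iff_eq_mul.mp this.symm
  · rw [show h.img hs = h.φ ⟨s, h.hSN hs⟩ from rfl, h.act_apply' (h.hSN hs) a, e,
      mul_inv_cancel_right]

theorem psi_img {s : G} (hs : s ∈ (h.S : Subgroup G)) (a : A) :
    (h.psi (h.img hs) a : G) = s * a * s⁻¹ * a := by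
  rw [psi_apply, Subgroup.coe_mul, img, h.act_apply' (h.hSN hs) a]

include h in
theorem isPGroup_S : IsPGroup 2 (h.S : Subgroup G) := h.S.2

/-- `A` is the only elementary abelian subgroup of order sixteen of `S`. -/
theorem eq_A_of_elem {B : Subgroup G} (hBS : B ≤ (h.S : Subgroup G)) (hB2 : ∀ b ∈ B, b * b = 1)
    (h16 : Nat.card B = 16) : B = A := by
  refine Subgroup.eq_of_le_of_card_ge ?_ (by rw [h16, h.card16])
  by_contra hle
  obtain ⟨b, hb, hbA⟩ := Set.not_subset.mp hle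
  set f := h.phiOn (hBS.trans h.hSN) with hf
  have hker : ∀ x : f.ker, ((x : B) : G) ∈ A := fun x => (h.img_eq_one (hBS (x : B).2)).mp x.2
  have hfix : ∀ (c : G) (hc : c ∈ B) (x : f.ker),
      (⟨_, hker x⟩ : A) ∈ h.fixA (h.img (hBS hc)) := by
    intro c hc x
    rw [h.mem_fix_iff (hBS hc)]
    have h1 := hB2 _ (mul_mem hc (x : B).2)
    calc c * ((x : B) : G) = (c * (x : B) * (c * (x : B))) * (((x : B) : G)⁻¹ * c⁻¹) := by group
      _ = ((x : B) : G)⁻¹ * c⁻¹ := by rw [h1, one_mul]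
      _ = ((x : B) : G) * c := by
          rw [inv_eq_of_mul_eq_one_right (hB2 _ (x : B).2), inv_eq_of_mul_eq_one_right (hB2 _ hc)]
  set g := h.img (hBS hb) with hg
  have hg1 : g ≠ 1 := h.img_ne (hBS hb) hbA
  have hk4 : Nat.card f.ker ≤ 4 := by
    rw [← h.card_fix (h.img_mem (hBS hb)) hg1]
    refine Nat.card_le_card_of_injective (fun x => (⟨_, hfix b hb x⟩ : h.fixA g)) fun x y e => ?_
    exact Subtype.ext (Subtype.ext (congrArg (fun q : h.fixA g => ((q : A) : G)) e))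
  have hprod : Nat.card f.range * Nat.card f.ker = 16 := by
    rw [← Subgroup.index_ker, Subgroup.index_mul_card, h16]
  by_cases hsmall : ∀ c : B, f c = 1 ∨ f c = g
  · have hr : Nat.card f.range ≤ 2 := by
      refine le_trans (Nat.card_mono (t := ({1, g} : Set A5)) (Set.toFinite _) ?_) ?_
      · rintro _ ⟨c, rfl⟩; exact hsmall c
      · rw [Nat.card_coe_set_eq]
        exact (Set.ncard_insert_le _ _).trans (by rw [Set.ncard_singleton])
    have := Nat.mul_le_mul hr hk4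
    omega
  · push Not at hsmall
    obtain ⟨c, hc1, hcg⟩ := hsmall
    have hk2 : Nat.card f.ker ≤ 2 := by
      refine le_trans (Nat.card_le_card_of_injective (fun x => (⟨⟨_, hker x⟩,
        h.act_eq_of_two (h.img_mem (hBS hb)) (h.img_mem (hBS c.2)) hg1 hc1 (Ne.symm hcg)
          (hfix b hb x) (hfix c c.2 x)⟩ : ({1, h.z} : Set A))) fun x y e => ?_) ?_
      · exact Subtype.ext (Subtype.ext (congrArg (fun q : ({1, h.z} : Set A) => ((q : A) : G)) e))
      · rw [Nat.card_coe_set_eq]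
        exact (Set.ncard_insert_le _ _).trans (by rw [Set.ncard_singleton])
    have hr : Nat.card f.range ≤ 4 := by
      rw [← card_fourV]
      exact Subgroup.card_le_of_le (by rintro _ ⟨x, rfl⟩; exact h.img_mem (hBS x.2))
    have := Nat.mul_le_mul hr hk2
    omega

include h in
/-- Weak closure. -/
theorem mem_normalizer_of_le {P : Subgroup G} (hP : IsPGroup 2 P) (hAP : A ≤ P) {g : G}
    (hg : ∀ a ∈ A, g * a * g⁻¹ ∈ P) : g ∈ Subgroup.normalizer (A : Set G) := by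
  obtain ⟨x, -, hx⟩ := (isSyl_of_sylow h.S (le_top : (h.S : Subgroup G) ≤ ⊤)).exists_conj le_top hP
  have key : ∀ y : G, (∀ a ∈ A, y * a * y⁻¹ ∈ (h.S : Subgroup G)) →
      y ∈ Subgroup.normalizer (A : Set G) := by
    intro y hy
    have he : A.map (MulAut.conj y).toMonoidHom = A := by
      refine h.eq_A_of_elem (by rintro _ ⟨a, ha, rfl⟩; exact hy a ha) ?_ ?_
      · rintro _ ⟨a, ha, rfl⟩
        rw [← map_mul, h.sqG ha, map_one]
      · rw [Subgroup.card_map_of_injective (MulAut.conj y).injective, h.card16]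
    exact ExtremelyClosed.mem_normalizer_of_conj_mem fun a ha => he.le ⟨a, ha, rfl⟩
  have h1 := key x fun a ha => hx a (hAP ha)
  have h2 := key (x * g) fun a ha => by
    rw [show x * g * a * (x * g)⁻¹ = x * (g * a * g⁻¹) * x⁻¹ by group]
    exact hx _ (hg a ha)
  simpa using mul_mem (inv_mem h1) h2

include h in
/-- Conjugacy inside `A` is realised by the normaliser. -/
theorem exists_conj_normalizer {L : Subgroup G} (hAL : A ≤ L) {g a : G} (hg : g ∈ L) (ha : a ∈ A)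
    (hb : g * a * g⁻¹ ∈ A) :
    ∃ n ∈ Subgroup.normalizer (A : Set G), n ∈ L ∧ n * a * n⁻¹ = g * a * g⁻¹ := by
  set b := g * a * g⁻¹ with hbdef
  have hAC : A ≤ L ⊓ cen b := le_inf hAL fun x hx =>
    Subgroup.mem_centralizer_singleton_iff.mpr (h.commG hx hb)
  obtain ⟨P, hP, hAP⟩ := exists_isSyl h.isPGroupA hAC
  obtain ⟨l, hl, hlP⟩ := hP.exists_conj (B := A.map (MulAut.conj g).toMonoidHom) (by
    rintro _ ⟨x, hx, rfl⟩
    refine Subgroup.mem_inf.mpr ⟨L.mul_mem (L.mul_mem hg (hAL hx)) (L.inv_mem hg),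
      Subgroup.mem_centralizer_singleton_iff.mpr ?_⟩
    show g * x * g⁻¹ * b = b * (g * x * g⁻¹)
    rw [hbdef, show g * x * g⁻¹ * (g * a * g⁻¹) = g * (x * a) * g⁻¹ by group, h.commG hx ha]
    group) (isPGroup_map_conj h.isPGroupA g)
  refine ⟨l * g, h.mem_normalizer_of_le hP.2.1 hAP fun x hx => ?_, mul_mem hl.1 hg, ?_⟩
  · rw [show l * g * x * (l * g)⁻¹ = l * (g * x * g⁻¹) * l⁻¹ by group]
    exact hlP _ ⟨x, hx, rfl⟩
  · rw [show l * g * a * (l * g)⁻¹ = l * b * l⁻¹ by rw [hbdef]; group]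
    exact mul_inv_eq_iff_eq_mul.mpr (Subgroup.mem_centralizer_singleton_iff.mp hl.2)

/-- Two conjugate elements of `A` lie in one orbit. -/
theorem mem_orb_of_conj {a b : A} {g : G} (e : g * (a : G) * g⁻¹ = b) : b ∈ h.orb a := by
  obtain ⟨n, hn, -, hne⟩ := h.exists_conj_normalizer le_top (Subgroup.mem_top g) a.2 (e ▸ b.2)
  exact ⟨h.φ ⟨n, hn⟩, Subtype.ext (by rw [h.act_apply' hn, hne, e])⟩

/-! ### Involutions outside `A` -/

theorem transport {t : G} (ht : t ∈ (h.S : Subgroup G)) {x : A5}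
    (hx : x * h.img ht * x⁻¹ ∈ fourV) (ht2 : t * t = 1) :
    ∃ n ∈ Subgroup.normalizer (A : Set G), ∃ hu : n * t * n⁻¹ ∈ (h.S : Subgroup G),
      h.img hu = x * h.img ht * x⁻¹ := by
  obtain ⟨n, hn, hnx⟩ := h.exists_lift x
  set g := x * h.img ht * x⁻¹ with hgdef
  set H' : Subgroup G := ((Subgroup.zpowers g).comap h.φ).map
    (Subgroup.normalizer (A : Set G)).subtype with hH'
  have hmem : ∀ (y : G) (hy : y ∈ Subgroup.normalizer (A : Set G)),
      y ∈ H' ↔ h.φ ⟨y, hy⟩ ∈ Subgroup.zpowers g := fun y hy =>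
    ⟨fun ⟨y', hy', e⟩ => by obtain rfl : y' = ⟨y, hy⟩ := Subtype.ext e; exact hy',
      fun e => ⟨⟨y, hy⟩, e, rfl⟩⟩
  have hpow : ∀ y ∈ Subgroup.zpowers g, y = 1 ∨ y = g := by
    rintro _ ⟨k, rfl⟩
    obtain ⟨m, rfl | rfl⟩ := Int.even_or_odd' k
    · left; show g ^ (2 * m) = 1
      rw [zpow_mul, zpow_two, four_mul_self hx, one_zpow]
    · right; show g ^ (2 * m + 1) = g
      rw [zpow_add_one, zpow_mul, zpow_two, four_mul_self hx, one_zpow, one_mul]
  obtain ⟨s₀, hs₀, hs₀g⟩ := (h.imgS g).mp hx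
  have hs₀H : (s₀ : G) ∈ H' := (hmem _ s₀.2).mpr (hs₀g ▸ Subgroup.mem_zpowers g)
  have hAH : A ≤ H' := fun a ha => (hmem a (Subgroup.le_normalizer ha)).mpr (by
    rw [(h.ker_iff _).mpr (h.le_centralizer ha)]; exact one_mem _)
  have hsyl : IsSyl H' ((h.S : Subgroup G) ⊓ H') := by
    refine ⟨inf_le_right, h.S.2.to_le inf_le_left, fun Q hQ hQ2 hle q hq => ?_⟩
    obtain ⟨⟨q', hqN⟩, hq', rfl⟩ := hQ hq
    have hAQ : A ≤ Q := (le_inf h.hAS hAH).trans hle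
    refine ⟨?_, hQ hq⟩
    rcases hpow _ hq' with e | e
    · exact h.hAS (h.mem_A_of_cent hQ2 hAQ hq ((h.ker_iff _).mp e))
    · have hmul : (s₀ : G)⁻¹ * q' ∈ A := by
        refine h.mem_A_of_cent hQ2 hAQ (mul_mem (inv_mem (hle ⟨hs₀, hs₀H⟩)) hq)
          ((h.ker_iff (s₀⁻¹ * ⟨q', hqN⟩)).mp ?_)
        rw [map_mul, map_inv, e, hs₀g, inv_mul_cancel]
      have h3 := Subgroup.mul_mem (h.S : Subgroup G) hs₀ (h.hAS hmul)
      rwa [mul_inv_cancel_left] at h3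
  have ht' : n * t * n⁻¹ ∈ Subgroup.normalizer (A : Set G) :=
    mul_mem (mul_mem hn (h.hSN ht)) (inv_mem hn)
  have hφ' : h.φ ⟨_, ht'⟩ = g := by
    rw [show (⟨n * t * n⁻¹, ht'⟩ : Subgroup.normalizer (A : Set G)) =
      ⟨n, hn⟩ * ⟨t, h.hSN ht⟩ * ⟨n, hn⟩⁻¹ from rfl, map_mul, map_mul, map_inv, hnx]
    rfl
  have ht'2 : n * t * n⁻¹ * (n * t * n⁻¹) = 1 := by
    rw [show n * t * n⁻¹ * (n * t * n⁻¹) = n * (t * t) * n⁻¹ by group, ht2, mul_one, mul_inv_cancel]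
  obtain ⟨l, hl, hlu⟩ := hsyl.exists_conj (B := Subgroup.zpowers (n * t * n⁻¹))
    (Subgroup.zpowers_le.mpr ((hmem _ ht').mpr (hφ' ▸ Subgroup.mem_zpowers g)))
    (fun y => ⟨1, by
      obtain ⟨k, hk⟩ := y.2
      refine Subtype.ext ?_
      rw [pow_one, Subgroup.coe_pow, ← hk]
      show ((n * t * n⁻¹) ^ k) ^ 2 = 1
      rw [sq, ← (Commute.refl _).mul_zpow, ht'2, one_zpow]⟩)
  obtain ⟨⟨l', hlN⟩, hlg, rfl⟩ := hl
  have hu := (hlu _ (Subgroup.mem_zpowers _)).1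
  refine ⟨l' * n, mul_mem hlN hn, ?_, ?_⟩
  · rw [show l' * n * t * (l' * n)⁻¹ = l' * (n * t * n⁻¹) * l'⁻¹ by group]
    exact hu
  · have e : (⟨l' * n * t * (l' * n)⁻¹, mul_mem (mul_mem (mul_mem hlN hn) (h.hSN ht))
        (inv_mem (mul_mem hlN hn))⟩ : Subgroup.normalizer (A : Set G)) =
        ⟨l', hlN⟩ * ⟨n * t * n⁻¹, ht'⟩ * ⟨l', hlN⟩⁻¹ := Subtype.ext (by simp; group)
    show h.φ ⟨l' * n * t * (l' * n)⁻¹, _⟩ = g
    rw [e, map_mul, map_mul, map_inv, hφ']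
    rcases hpow _ hlg with e' | e' <;> rw [e'] <;> simp

theorem coset_conj {u v : G} (hu : u ∈ (h.S : Subgroup G)) (hv : v ∈ (h.S : Subgroup G))
    (hu2 : u * u = 1) (hv2 : v * v = 1) (huA : u ∉ A) (he : h.img hu = h.img hv) :
    ∃ a ∈ A, a * u * a⁻¹ = v := by
  have huv : u * v ∈ A := by
    rw [← h.img_eq_one (mul_mem hu hv), h.img_mul hu hv, he, four_mul_self (h.img_mem hv)]
  have hui := inv_eq_of_mul_eq_one_right hu2
  have hfix : (⟨_, huv⟩ : A) ∈ h.fixA (h.img hu) := by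
    rw [h.mem_fix_iff hu]
    show u * (u * v) = u * v * u
    have h1 := h.sqG huv
    calc u * (u * v) = (u * u) * v := by group
      _ = v := by rw [hu2, one_mul]
      _ = u⁻¹ * (u * v) := by group
      _ = u⁻¹ * (u * v)⁻¹ := by rw [inv_eq_of_mul_eq_one_right h1]
      _ = u⁻¹ * v⁻¹ * u⁻¹ := by group
      _ = u * v * u := by rw [hui, inv_eq_of_mul_eq_one_right hv2]
  obtain ⟨b, hb⟩ := (h.z_mem_range (h.img_mem hu) (h.img_ne hu huA)).1 hfix
  refine ⟨b, b.2, ?_⟩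
  have h1 := congrArg (fun q : A => (q : G)) hb
  simp only [h.psi_img hu, hui] at h1
  have hbi : (b : G)⁻¹ = b := inv_eq_of_mul_eq_one_right (h.sqG b.2)
  calc (b : G) * u * (b : G)⁻¹ = (u * u) * ((b : G) * u * b) := by rw [hu2, one_mul, hbi]
    _ = u * (u * b * u * b) := by group
    _ = u * (u * v) := by rw [h1]
    _ = v := by rw [← mul_assoc, hu2, one_mul]

theorem involutions_conj {t u : G} (ht : t ∈ (h.S : Subgroup G)) (hu : u ∈ (h.S : Subgroup G))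
    (ht2 : t * t = 1) (hu2 : u * u = 1) (htA : t ∉ A) (huA : u ∉ A) :
    ∃ n ∈ Subgroup.normalizer (A : Set G), n * t * n⁻¹ = u := by
  obtain ⟨x, hx⟩ := exists_four_move (h.img_mem ht) (h.img_mem hu) (h.img_ne ht htA) (h.img_ne hu huA)
  obtain ⟨n, hn, hu', he⟩ := h.transport ht (x := x) (hx ▸ h.img_mem hu) ht2
  have h2 : n * t * n⁻¹ * (n * t * n⁻¹) = 1 := by
    rw [show n * t * n⁻¹ * (n * t * n⁻¹) = n * (t * t) * n⁻¹ by group, ht2, mul_one, mul_inv_cancel]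
  have hA' : n * t * n⁻¹ ∉ A := fun hc => h.img_ne hu huA
    (by rw [← hx, ← he]; exact (h.img_eq_one hu').mpr hc)
  obtain ⟨a, ha, hae⟩ := h.coset_conj hu' hu h2 hu2 hA' (he.trans hx)
  exact ⟨a * n, mul_mem (Subgroup.le_normalizer ha) hn, by rw [← hae]; group⟩

theorem exists_conj_S {t : G} (ht : orderOf t = 2) : ∃ g : G, g * t * g⁻¹ ∈ (h.S : Subgroup G) := by
  obtain ⟨g, -, hg⟩ := (isSyl_of_sylow h.S (le_top : (h.S : Subgroup G) ≤ ⊤)).exists_conj_mem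
    (Subgroup.mem_top t) ht
  exact ⟨g, hg⟩

theorem exists_u : ∃ u ∈ (h.S : Subgroup G), u * u = 1 ∧ u ∉ A ∧ ∀ a ∈ A, ¬ IsConj u a := by
  by_contra hc
  push Not at hc
  obtain ⟨a₀, ha₀⟩ := Set.nonempty_of_ncard_ne_zero
    (show ({a : A | a ≠ 1 ∧ a ∉ h.orb h.z}).ncard ≠ 0 by rw [h.ncard_rest]; norm_num)
  have hA : ∀ a : A, a ≠ 1 → IsConj (a : G) (h.z : G) ∨ IsConj (a : G) (a₀ : G) := by
    intro a ha
    have key : ∀ c : A, a ∈ h.orb c → IsConj (a : G) (c : G) := by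
      rintro c ⟨g, rfl⟩
      obtain ⟨n, hn, rfl⟩ := h.exists_lift g
      exact (isConj_iff.mpr ⟨n, (h.act_apply' hn c).symm⟩).symm
    by_cases hz : a ∈ h.orb h.z
    · exact Or.inl (key _ hz)
    · exact Or.inr (key _ ((h.rest_facts ha₀.1 ha₀.2).2 a ha hz))
  have hall : ∀ t : G, orderOf t = 2 → IsConj t (h.z : G) ∨ IsConj t (a₀ : G) := by
    intro t ht
    obtain ⟨g, hg⟩ := h.exists_conj_S ht
    have h2 := orderOf_two_iff.mp ((StronglyEmbedded.orderOf_conj g t).trans ht)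
    have hct : IsConj t (g * t * g⁻¹) := isConj_iff.mpr ⟨g, rfl⟩
    obtain ⟨a, ha, hca⟩ : ∃ a ∈ A, IsConj (g * t * g⁻¹) a := by
      by_cases hgA : g * t * g⁻¹ ∈ A
      · exact ⟨_, hgA, IsConj.refl _⟩
      · exact hc _ hg h2.1 hgA
    have ha1 : a ≠ 1 := fun e => h2.2 (by
      subst e; obtain ⟨w, hw⟩ := isConj_iff.mp hca; exact conj_eq_one_iff.mp hw)
    rcases hA ⟨a, ha⟩ (fun e => ha1 (congrArg Subtype.val e)) with e | e
    · exact Or.inl ((hct.trans hca).trans e)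
    · exact Or.inr ((hct.trans hca).trans e)
  have h2 : Nat.card {c : ConjClasses G // ∃ x ∈ c.carrier, orderOf x = 2} ≤ 2 := by
    refine le_trans (Nat.card_mono (t := ({ConjClasses.mk (h.z : G), ConjClasses.mk (a₀ : G)} :
      Set (ConjClasses G))) (Set.toFinite _) ?_) ?_
    · rintro c ⟨x, hx, hx2⟩
      rw [ConjClasses.mem_carrier_iff_mk_eq] at hx
      subst hx
      rcases hall x hx2 with e | e
      · exact Or.inl (ConjClasses.mk_eq_mk_iff_isConj.mpr e)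
      · exact Or.inr (ConjClasses.mk_eq_mk_iff_isConj.mpr e)
    · rw [Nat.card_coe_set_eq]
      exact (Set.ncard_insert_le _ _).trans (by rw [Set.ncard_singleton])
  have := h.classes
  omega

include h in
/-- Strong closure. -/
theorem mem_A_of_conj {a g : G} (ha : a ∈ A) (hg : g * a * g⁻¹ ∈ (h.S : Subgroup G)) :
    g * a * g⁻¹ ∈ A := by
  by_contra hA
  obtain ⟨u, hu, hu2, huA, hun⟩ := h.exists_u
  have h2 : g * a * g⁻¹ * (g * a * g⁻¹) = 1 := by
    rw [show g * a * g⁻¹ * (g * a * g⁻¹) = g * (a * a) * g⁻¹ by group, h.sqG ha, mul_one,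
      mul_inv_cancel]
  obtain ⟨n, -, hne⟩ := h.involutions_conj hg hu h2 hu2 hA huA
  exact hun a ha (isConj_iff.mpr ⟨n * g, by rw [← hne]; group⟩).symm

include h in
theorem not_isConj {u a : G} (hu : u ∈ (h.S : Subgroup G)) (huA : u ∉ A) (ha : a ∈ A) :
    ¬ IsConj u a := fun hc => by
  obtain ⟨g, hg⟩ := isConj_iff.mp hc.symm
  exact huA (hg ▸ h.mem_A_of_conj ha (hg ▸ hu))

/-- Each coset has an involution. -/
theorem exists_inv {k : A5} (hk : k ∈ fourV) (hk1 : k ≠ 1) :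
    ∃ u, ∃ hu : u ∈ (h.S : Subgroup G), u * u = 1 ∧ h.img hu = k := by
  obtain ⟨u, hu, hu2, huA, -⟩ := h.exists_u
  obtain ⟨x, hx⟩ := exists_four_move (h.img_mem hu) hk (h.img_ne hu huA) hk1
  obtain ⟨n, -, hv, he⟩ := h.transport hu (x := x) (hx ▸ hk) hu2
  exact ⟨_, hv, by rw [show n * u * n⁻¹ * (n * u * n⁻¹) = n * (u * u) * n⁻¹ by group, hu2, mul_one,
    mul_inv_cancel], he.trans hx⟩

end Setting

end CfsgLib.EightType55
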