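import Cfsg.Agent.EightType55.Others

/-!
Sylow 2-subgroups of type `A8`, three classes of involutions, automiser `A5` on an elementary
abelian subgroup of order sixteen: that subgroup is normal modulo the odd core.
-/

set_option autoImplicit false
set_option linter.style.haveILetI false
set_option linter.unusedSectionVars false

universe u

namespace CfsgLib.EightType55

open Cfsg
open CfsgLib.StronglyEmbedded (orderOf_two_iff)

variable {G : Type u} [Group G] [Finite G] {A : Subgroup G}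

local instance : Fact (Nat.Prime 2) := ⟨Nat.prime_two⟩

theorem Setting.normal_sup_oddCore (h : Setting A) : (A ⊔ oddCore G).Normal := by
  obtain ⟨W, M, hW, hWM, hNM, hCM, hMdec⟩ :=
    exists_cover h.elem (by rw [h.card16]; norm_num) h.balance h.good_all
  obtain ⟨u, hu, hu2, huA, huM⟩ := h.exists_cen_le hCM
  have hSM : (h.S : Subgroup G) ≤ M := h.hSN.trans hNM
  have hsyl := isSyl_of_sylow h.S hSM
  have hz1 : (h.z : G) ≠ 1 := fun e => h.z_ne (Subtype.ext e)
  have hc : ∀ j ∈ M, orderOf j = 2 → Subgroup.centralizer ({j} : Set G) ≤ M := by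
    intro j hj hj2 c hcj
    obtain ⟨m, hm, hmj⟩ := hsyl.exists_conj_mem hj hj2
    obtain ⟨hsq, hne⟩ := orderOf_two_iff.mp ((StronglyEmbedded.orderOf_conj m j).trans hj2)
    have h1 : m * c * m⁻¹ ∈ cen (m * j * m⁻¹) := by
      rw [Subgroup.mem_centralizer_singleton_iff,
        show m * c * m⁻¹ * (m * j * m⁻¹) = m * (c * j) * m⁻¹ by group,
        Subgroup.mem_centralizer_singleton_iff.mp hcj]
      group
    have h2 : m * c * m⁻¹ ∈ M := by
      by_cases hA : m * j * m⁻¹ ∈ A
      · exact hCM _ hA hne h1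
      · obtain ⟨n, hn, hne'⟩ := h.involutions_conj hmj hu hsq hu2 hA huA
        have h3 : n * (m * c * m⁻¹) * n⁻¹ ∈ cen u := by
          rw [Subgroup.mem_centralizer_singleton_iff, ← hne',
            show n * (m * c * m⁻¹) * n⁻¹ * (n * (m * j * m⁻¹) * n⁻¹) =
              n * (m * c * m⁻¹ * (m * j * m⁻¹)) * n⁻¹ by group,
            Subgroup.mem_centralizer_singleton_iff.mp h1]
          group
        simpa [mul_assoc] using mul_mem (mul_mem (inv_mem (hNM hn)) (huM h3)) (hNM hn)
    simpa [mul_assoc] using mul_mem (mul_mem (inv_mem hm) h2) hm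
  have htop : M = ⊤ := by
    refine eq_top_of_fusion (orderOf_two_iff.mpr ⟨hu2, fun e => huA (e ▸ one_mem A)⟩)
      (orderOf_two_iff.mpr ⟨h.sqG h.z.2, hz1⟩) (hSM hu) (h.not_isConj hu huA h.z.2) hc fun g hg => ?_
    obtain ⟨m, hm, hmS⟩ := hsyl.exists_conj_mem hg
      ((StronglyEmbedded.orderOf_conj g _).trans (orderOf_two_iff.mpr ⟨h.sqG h.z.2, hz1⟩))
    rw [show m * (g * h.z * g⁻¹) * m⁻¹ = m * g * h.z * (m * g)⁻¹ by group] at hmS
    obtain ⟨n, hn, -, hne⟩ := h.exists_conj_normalizer le_top (Subgroup.mem_top (m * g)) h.z.2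
      (h.mem_A_of_conj h.z.2 hmS)
    have hd : n⁻¹ * (m * g) ∈ cen (h.z : G) := Subgroup.mem_centralizer_singleton_iff.mpr (by
      calc n⁻¹ * (m * g) * h.z = n⁻¹ * (m * g * h.z * (m * g)⁻¹) * (m * g) := by group
        _ = n⁻¹ * (n * h.z * n⁻¹) * (m * g) := by rw [hne]
        _ = h.z * (n⁻¹ * (m * g)) := by group)
    simpa [mul_assoc] using
      mul_mem (inv_mem hm) (mul_mem (hNM hn) (hCM _ h.z.2 hz1 hd))
  subst htop
  have hWn : W.Normal := ⟨fun w hw g => hWM g (Subgroup.mem_top g) w hw⟩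
  have hWO : W ≤ oddCore G := Constrained.le_pPrimeCore_of_not_dvd hWn (not_two_dvd_of_odd hW)
  haveI hO : (oddCore G).Normal := pPrimeCore_normal 2 G
  refine ⟨fun x hx g => ?_⟩
  obtain ⟨a, ha, o, ho, rfl⟩ :=
    exists_mul_of_mem_sup (fun b _ r hr => hO.conj_mem r hr b) hx
  obtain ⟨w, hw, n, hn, rfl⟩ := hMdec g (Subgroup.mem_top g)
  rw [show w * n * (a * o) * (w * n)⁻¹ = w * (n * a * n⁻¹) * w⁻¹ * (w * n * o * (w * n)⁻¹) by group]
  exact mul_mem (mul_mem (mul_mem (Subgroup.mem_sup_right (hWO hw))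
    (Subgroup.mem_sup_left ((Subgroup.mem_normalizer_iff.mp hn a).mp ha)))
    (Subgroup.mem_sup_right (inv_mem (hWO hw)))) (Subgroup.mem_sup_right (hO.conj_mem o ho _))

/-- The hypotheses give the setting. -/
theorem exists_setting (S₀ : Sylow 2 G) (P₀ : Sylow 2 A8)
    (hS : Nonempty ((S₀ : Subgroup G) ≃* (P₀ : Subgroup A8)))
    (h3 : Nat.card {c : ConjClasses G // ∃ x ∈ c.carrier, orderOf x = 2} = 3)
    (hA : IsElementaryAbelian 2 A) (hA16 : Nat.card A = 16)
    (hM₀ : (A.subgroupOf (Subgroup.normalizer (A : Set G)) ⊔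
      oddCore ↥(Subgroup.normalizer (A : Set G))).Normal)
    (e : haveI := hM₀
      ↥(Subgroup.normalizer (A : Set G)) ⧸ (A.subgroupOf (Subgroup.normalizer (A : Set G)) ⊔
        oddCore ↥(Subgroup.normalizer (A : Set G))) ≃* A5) :
    Nonempty (Setting A) := by
  obtain ⟨eS⟩ := hS
  set N := Subgroup.normalizer (A : Set G) with hN
  set A' := A.subgroupOf N with hA'
  set O := oddCore ↥N with hO
  set M₀ := A' ⊔ O with hM₀def
  haveI := hM₀
  haveI hAn : A'.Normal := Subgroup.normal_in_normalizer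
  haveI hOn : O.Normal := pPrimeCore_normal 2 ↥N
  set φ : N →* A5 := e.toMonoidHom.comp (QuotientGroup.mk' M₀) with hφdef
  have hφ : ∀ n, φ n = 1 ↔ n ∈ M₀ := fun n => by
    show e (QuotientGroup.mk' M₀ n) = 1 ↔ _
    rw [map_eq_one_iff e e.injective, QuotientGroup.mk'_apply, QuotientGroup.eq_one_iff]
  have hsurj : Function.Surjective φ :=
    e.surjective.comp (QuotientGroup.mk'_surjective M₀)
  have hA2 : ∀ a ∈ A, a * a = 1 := fun a ha => by rw [← sq]; exact hA.2 a ha
  have hAp : IsPGroup 2 A := IsPGroup.of_card (n := 4) (by rw [hA16]; norm_num)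
  have hAN : A ≤ N := Subgroup.le_normalizer
  have hA'p : IsPGroup 2 A' := hAp.comap_of_injective N.subtype N.subtype_injective
  have hOodd : Odd (Nat.card O) := ExtremelyClosed.odd_of_not_two_dvd Constrained.pPrimeCore_not_dvd
  have hcentO : ∀ o ∈ O, ∀ a ∈ A', a * o = o * a := by
    intro o ho a ha
    have h1 : a * o * a⁻¹ * o⁻¹ = 1 := eq_one_of_mem_both hA'p hOodd
      (by rw [show a * o * a⁻¹ * o⁻¹ = a * (o * a⁻¹ * o⁻¹) by group]
          exact mul_mem ha (hAn.conj_mem _ (inv_mem ha) o))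
      (mul_mem (hOn.conj_mem o ho a) (inv_mem ho))
    exact mul_inv_eq_iff_eq_mul.mp (mul_inv_eq_one.mp h1)
  have hcomA : ∀ a ∈ A, ∀ b ∈ A, a * b = b * a := fun a ha b hb =>
    congrArg Subtype.val (hA.1.1.comm (⟨a, ha⟩ : A) ⟨b, hb⟩)
  have hM₀C : ∀ n ∈ M₀, (n : G) ∈ Subgroup.centralizer (A : Set G) := by
    intro n hn
    rw [Subgroup.mem_centralizer_iff]
    intro a ha
    obtain ⟨b, hb, o, ho, rfl⟩ := Subgroup.mem_sup_of_normal_left.mp hn
    have h1 : a * (o : G) = o * a :=
      congrArg Subtype.val (hcentO o ho ⟨a, hAN ha⟩ ha)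
    show a * ((b : G) * o) = (b : G) * o * a
    rw [← mul_assoc, hcomA a ha b hb, mul_assoc, h1, mul_assoc]
  -- a Sylow subgroup in the preimage of the four-group
  set Nv := fourV.comap φ with hNv
  have hM₀card : 16 ∣ Nat.card M₀ := by
    have h16 : Nat.card A' = 16 := by
      rw [hA', Nat.card_congr (Subgroup.subgroupOfEquivOfLe hAN).toEquiv, hA16]
    exact h16 ▸ Subgroup.card_dvd_of_le le_sup_left
  have hker : φ.ker = M₀ := by ext n; exact hφ n
  have h64 : 2 ^ 6 ∣ Nat.card Nv := by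
    set f := φ.comp Nv.subtype
    have h1 : Nat.card f.range * Nat.card f.ker = Nat.card Nv := by
      rw [← Subgroup.index_ker, Subgroup.index_mul_card]
    have h2 : f.range = fourV := by
      refine le_antisymm (by rintro _ ⟨x, rfl⟩; exact x.2) fun g hg => ?_
      obtain ⟨n, rfl⟩ := hsurj g
      exact ⟨⟨n, hg⟩, rfl⟩
    have hle : M₀ ≤ Nv := fun n hn => by
      show φ n ∈ fourV
      rw [(hφ n).mpr hn]; exact one_mem _
    have h3 : Nat.card f.ker = Nat.card M₀ := by
      rw [← Nat.card_congr (Subgroup.subgroupOfEquivOfLe hle).toEquiv, ← hker]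
      rfl
    rw [← h1, h2, card_fourV, h3]
    exact mul_dvd_mul_left 4 hM₀card
  obtain ⟨P₁, hP₁⟩ := Sylow.exists_subgroup_card_pow_prime 2 h64
  set P : Subgroup G := (P₁.map Nv.subtype).map N.subtype with hPdef
  have hPcard : Nat.card P = 64 := by
    rw [hPdef, Subgroup.card_map_of_injective N.subtype_injective,
      Subgroup.card_map_of_injective Nv.subtype_injective, hP₁]
    norm_num
  have hPp : IsPGroup 2 P := IsPGroup.of_card (n := 6) (by rw [hPcard]; norm_num)
  have hPN : P ≤ N := Subgroup.map_subtype_le _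
  have hS64 : Nat.card (S₀ : Subgroup G) = 64 := by
    rw [Nat.card_congr eS.toEquiv, card_sylow_A8]
  obtain ⟨T, hT⟩ := hPp.exists_le_sylow
  have hT64 : Nat.card (T : Subgroup G) = 64 := by
    rw [Nat.card_congr (Sylow.equiv T S₀).toEquiv, hS64]
  have hTP : (T : Subgroup G) = P := (Subgroup.eq_of_le_of_card_ge hT (by rw [hT64, hPcard])).symm
  have hTN : (T : Subgroup G) ≤ N := hTP.le.trans hPN
  have hAT : A ≤ (T : Subgroup G) := by
    have h2 : IsPGroup 2 ↥((T : Subgroup G) ⊔ A) :=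
      IsPGroup.to_sup_of_normal_right' T.2 hAp hTN
    exact le_sup_right.trans (T.is_maximal' h2 le_sup_left).le
  have hcenter : Nat.card (Subgroup.center (T : Subgroup G)) ≤ 2 := by
    rw [Nat.card_congr (Subgroup.centerCongr ((Sylow.equiv T S₀).trans eS)).toEquiv]
    exact card_center_sylow_A8 P₀
  -- the centralizer is the kernel
  set C := (Subgroup.centralizer (A : Set G)).subgroupOf N with hC
  haveI hCn : C.Normal := ⟨fun c hc n => by
    rw [hC, Subgroup.mem_subgroupOf, Subgroup.mem_centralizer_iff]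
    intro a ha
    have ha' : (n : G)⁻¹ * a * n ∈ A := by
      simpa using (Subgroup.mem_normalizer_iff.mp (inv_mem n.2) a).mp ha
    push_cast
    calc a * ((n : G) * c * (n : G)⁻¹) = n * (((n : G)⁻¹ * a * n) * c) * (n : G)⁻¹ := by group
      _ = n * (c * ((n : G)⁻¹ * a * n)) * (n : G)⁻¹ := by
          rw [show ((n : G)⁻¹ * a * n) * c = c * ((n : G)⁻¹ * a * n) from
            Subgroup.mem_centralizer_iff.mp hc _ ha']
      _ = n * c * (n : G)⁻¹ * a := by group⟩
  have hkeriff : ∀ n : N, φ n = 1 ↔ (n : G) ∈ Subgroup.centralizer (A : Set G) := by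
    intro n
    refine ⟨fun h1 => hM₀C n ((hφ n).mp h1), fun h1 => ?_⟩
    haveI : (C.map φ).Normal := hCn.map φ hsurj
    rcases (this : (C.map φ).Normal).eq_bot_or_eq_top with hb | ht
    · exact Subgroup.mem_bot.mp (hb ▸ Subgroup.mem_map_of_mem φ (show n ∈ C from h1))
    · exfalso
      have hall : ∀ x : N, (x : G) ∈ Subgroup.centralizer (A : Set G) := by
        intro x
        obtain ⟨c, hc, he⟩ := ht.ge (Subgroup.mem_top (φ x))
        have hx : c⁻¹ * x ∈ M₀ := (hφ _).mp (by rw [map_mul, map_inv, he, inv_mul_cancel])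
        simpa using mul_mem (Subgroup.mem_subgroupOf.mp hc) (hM₀C _ hx)
      have h16 : Nat.card A ≤ Nat.card (Subgroup.center (T : Subgroup G)) :=
        Nat.card_le_card_of_injective (fun a => (⟨⟨a, hAT a.2⟩, Subgroup.mem_center_iff.mpr
          fun s => Subtype.ext (Subgroup.mem_centralizer_iff.mp (hall ⟨s, hTN s.2⟩) a a.2).symm⟩ :
            Subgroup.center (T : Subgroup G))) fun a b e' => Subtype.ext
          (congrArg (fun q : Subgroup.center (T : Subgroup G) => ((q : (T : Subgroup G)) : G)) e')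
      omega
  have hcent : ∀ c ∈ Subgroup.centralizer (A : Set G),
      ∃ a ∈ A, ∃ o ∈ coreOf N, c = a * o := by
    intro c hc
    have hcN : c ∈ N := Subgroup.centralizer_le_normalizer _ hc
    have h1 : (⟨c, hcN⟩ : N) ∈ M₀ := (hφ _).mp ((hkeriff _).mpr hc)
    obtain ⟨b, hb, o, ho, he⟩ := Subgroup.mem_sup_of_normal_left.mp h1
    exact ⟨b, hb, o, ⟨o, ho, rfl⟩, (congrArg Subtype.val he).symm⟩
  have himgle : ∀ s : N, (s : G) ∈ (T : Subgroup G) → φ s ∈ fourV := by
    intro s hs
    rw [hTP] at hs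
    obtain ⟨y, ⟨x, -, hxy⟩, hys⟩ := hs
    obtain rfl : y = s := Subtype.ext hys
    obtain rfl : (x : N) = y := hxy
    exact x.2
  have himgS : ∀ g : A5, g ∈ fourV ↔ ∃ s : N, (s : G) ∈ (T : Subgroup G) ∧ φ s = g := by
    set f := φ.comp (Subgroup.inclusion hTN) with hf
    have hfk : Nat.card f.ker ≤ 16 := by
      rw [← hA16]
      refine Nat.card_le_card_of_injective (fun x => (⟨((x : (T : Subgroup G)) : G), ?_⟩ : A))
        fun x y e' => Subtype.ext (Subtype.ext (congrArg (fun q : A => (q : G)) e'))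
      obtain ⟨a, ha, o, ho, he⟩ := hcent ((x : (T : Subgroup G)) : G) ((hkeriff _).mp x.2)
      have hoT : o ∈ (T : Subgroup G) := by
        have := mul_mem (inv_mem (hAT ha)) (x : (T : Subgroup G)).2
        rwa [he, inv_mul_cancel_left] at this
      rw [he, eq_one_of_mem_both T.2 (odd_coreOf N) hoT ho, mul_one]
      exact ha
    have hle : f.range ≤ fourV := by
      rintro _ ⟨x, rfl⟩; exact himgle _ x.2
    have heq : f.range = fourV := by
      refine Subgroup.eq_of_le_of_card_ge hle ?_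
      have h1 : Nat.card f.range * Nat.card f.ker = 64 := by
        rw [← Subgroup.index_ker, Subgroup.index_mul_card, hT64]
      rw [card_fourV]
      by_contra hlt
      have := Nat.mul_le_mul (show Nat.card f.range ≤ 3 by omega) hfk
      omega
    intro g
    refine ⟨fun hg => ?_, fun ⟨s, hs, he⟩ => he ▸ himgle s hs⟩
    obtain ⟨x, hx⟩ := heq.ge hg
    exact ⟨_, x.2, hx⟩
  exact ⟨{ elem := hA, card16 := hA16, S := T, hAS := hAT, hSN := hTN, card_S := hT64,
           center_S := hcenter, φ := φ, surj := hsurj, ker_iff := hkeriff, imgS := himgS,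
           cent := hcent, classes := h3 }⟩

/-- The theorem. -/
theorem normal_sup_oddCore_of_hyps (S₀ : Sylow 2 G) (P₀ : Sylow 2 A8)
    (hS : Nonempty ((S₀ : Subgroup G) ≃* (P₀ : Subgroup A8)))
    (h3 : Nat.card {c : ConjClasses G // ∃ x ∈ c.carrier, orderOf x = 2} = 3)
    (hA : IsElementaryAbelian 2 A) (hA16 : Nat.card A = 16)
    (N : Subgroup G) (hN : N = Subgroup.normalizer (A : Set G))
    (hNA : ∃ (_ : (A.subgroupOf N ⊔ oddCore ↥N).Normal),
      Nonempty (↥N ⧸ (A.subgroupOf N ⊔ oddCore ↥N) ≃* A5)) :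
    (A ⊔ oddCore G).Normal := by
  subst hN
  obtain ⟨hM₀, ⟨e⟩⟩ := hNA
  obtain ⟨h⟩ := exists_setting S₀ P₀ hS h3 hA hA16 hM₀ e
  exact h.normal_sup_oddCore

end CfsgLib.EightType55
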