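import Cfsg.Agent.EightType55.Setting

/-!
Fixed points, the hyperplane and the two orbits of the action.
-/

set_option autoImplicit false
set_option linter.style.haveILetI false
set_option linter.unusedSectionVars false

universe u

namespace CfsgLib.EightType55

open Cfsg

variable {G : Type u} [Group G] [Finite G] {A : Subgroup G}

local instance : Fact (Nat.Prime 2) := ⟨Nat.prime_two⟩

theorem s1_mem : s1 ∈ fourV := Or.inr (Or.inl rfl)
theorem s2_mem : s2 ∈ fourV := Or.inr (Or.inr (Or.inl rfl))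
theorem s3_mem : s3 ∈ fourV := Or.inr (Or.inr (Or.inr rfl))

set_option synthInstance.maxSize 2048 in
set_option synthInstance.maxHeartbeats 200000 in
theorem four_facts : ∀ g : A5, (g = 1 ∨ g = s1 ∨ g = s2 ∨ g = s3) →
    g * g = 1 ∧ g * s1 = s1 * g ∧ g * s2 = s2 * g ∧
      (t3 * g * t3⁻¹ = 1 ∨ t3 * g * t3⁻¹ = s1 ∨ t3 * g * t3⁻¹ = s2 ∨ t3 * g * t3⁻¹ = s3) ∧
      (t3⁻¹ * g * t3 = 1 ∨ t3⁻¹ * g * t3 = s1 ∨ t3⁻¹ * g * t3 = s2 ∨ t3⁻¹ * g * t3 = s3) ∧
      (g = 1 ∨ ∃ i : Fin 3, t3 ^ (i : ℕ) * g * (t3 ^ (i : ℕ))⁻¹ = s1) := by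
  decide +kernel

theorem four_conj : t3 * s1 * t3⁻¹ ≠ 1 ∧ t3 * s1 * t3⁻¹ ≠ s1 ∧
    t3 * t3 * s1 * (t3 * t3)⁻¹ ≠ 1 ∧ t3 * t3 * s1 * (t3 * t3)⁻¹ ≠ s1 ∧
    t3 * t3 * s1 * (t3 * t3)⁻¹ ≠ t3 * s1 * t3⁻¹ := by decide +kernel

set_option synthInstance.maxSize 2048 in
set_option synthInstance.maxHeartbeats 200000 in
theorem four_product_injective : ∀ i j : Fin 3, ∀ g k : A5, (g = 1 ∨ g = s1 ∨ g = s2 ∨ g = s3) →
    (k = 1 ∨ k = s1 ∨ k = s2 ∨ k = s3) → t3 ^ (i : ℕ) * g = t3 ^ (j : ℕ) * k → i = j ∧ g = k := by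
  decide +kernel

theorem orderOf_t3 : orderOf t3 = 3 :=
  haveI : Fact (Nat.Prime 3) := ⟨Nat.prime_three⟩
  orderOf_eq_prime (by rw [pow_succ, pow_two]; exact five_facts.2.2.2.2.1) (by decide +kernel)

theorem orderOf_c5 : orderOf c5 = 5 :=
  haveI : Fact (Nat.Prime 5) := ⟨by norm_num⟩
  orderOf_eq_prime (by
    rw [pow_succ, pow_succ, pow_succ, pow_two]; exact five_facts.2.2.2.2.2.2) five_facts.2.2.2.2.2.1

theorem card_fourV : Nat.card fourV = 4 := by
  rw [Nat.card_congr (Equiv.subtypeEquivRight (q := (· ∈ ({1, s1, s2, s3} : Finset A5)))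
    fun x => by simp [mem_fourV]), Nat.card_eq_finsetCard]
  decide +kernel

theorem fourV_isSyl : IsSyl (⊤ : Subgroup A5) fourV := by
  refine ⟨le_top, IsPGroup.of_card (n := 2) (by rw [card_fourV]; norm_num), fun Q _ hQ hVQ => ?_⟩
  obtain ⟨k, hk⟩ := IsPGroup.iff_card.mp hQ
  have h1 := Subgroup.card_subgroup_dvd_card Q
  rw [hk, card_A5] at h1
  have h2 : k ≤ 2 := by
    by_contra hle
    have h8 : 8 ∣ 60 := dvd_trans (show 8 ∣ 2 ^ k by
      exact (show (8 : ℕ) = 2 ^ 3 by norm_num) ▸ pow_dvd_pow 2 (show 3 ≤ k by omega)) h1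
    norm_num at h8
  refine (Subgroup.eq_of_le_of_card_ge hVQ ?_).ge
  rw [hk, card_fourV]
  exact Nat.pow_le_pow_right (by norm_num) h2

namespace Setting

variable (h : Setting A)

theorem act_map_fix {g x : A5} {a : A} (ha : a ∈ h.fixA g) :
    h.act x a ∈ h.fixA (x * g * x⁻¹) := by
  rw [mem_fixA, act_act, inv_mul_cancel_right, ← act_act, h.mem_fixA.mp ha]

theorem z_mem_range {g : A5} (hg : g ∈ fourV) (hg1 : g ≠ 1) :
    h.fixA g ≤ (h.psi g).range ∧ Nat.card (h.fixA g) = 4 := by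
  have hg2 : g * g = 1 := (four_facts g hg).1
  have hle : (h.psi g).range ≤ h.fixA g := by
    rintro _ ⟨a, rfl⟩; exact h.psi_mem_fix hg2 a
  -- another element of the four-group
  obtain ⟨k, hk, hk1, hne⟩ : ∃ k ∈ fourV, k ≠ 1 ∧ g ≠ k := by
    by_cases e : g = s1
    · exact ⟨s2, s2_mem, five_facts.1.2.1, e ▸ five_facts.1.2.2.2.1⟩
    · exact ⟨s1, s1_mem, five_facts.1.1, e⟩
  have hgk : g * k = k * g := by
    rw [mem_fourV] at hk
    rcases hk with rfl | rfl | rfl | rfl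
    · simp
    · exact (four_facts g hg).2.1
    · exact (four_facts g hg).2.2.1
    · rw [← five_facts.2.2.2.1, ← mul_assoc, (four_facts g hg).2.1, mul_assoc,
        (four_facts g hg).2.2.1, mul_assoc]
  set D := h.fixA g ⊓ h.fixA k
  have hD : Nat.card D ≤ 2 := by
    calc Nat.card D ≤ Nat.card ({1, h.z} : Set A) := Nat.card_mono (Set.toFinite _) fun a ha =>
          h.act_eq_of_two hg hk hg1 hk1 hne ha.1 ha.2
      _ ≤ 2 := by
        rw [Nat.card_coe_set_eq]
        exact (Set.ncard_insert_le _ _).trans (by rw [Set.ncard_singleton])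
  set f := (h.psi k).comp (h.fixA g).subtype
  have hker : Nat.card f.ker ≤ 2 := by
    refine le_trans (Nat.card_le_card_of_injective (fun a => (⟨((a : h.fixA g) : A),
      (a : h.fixA g).2, h.psi_eq_one.mp a.2⟩ : D)) fun a b e => ?_) hD
    exact Subtype.ext (Subtype.ext (congrArg (fun q : D => (q : A)) e))
  have hrange : Nat.card f.range ≤ 2 := by
    refine le_trans (Subgroup.card_le_of_le ?_) hD
    rintro _ ⟨a, rfl⟩
    refine Subgroup.mem_inf.mpr ⟨?_, h.psi_mem_fix (four_facts k hk).1 _⟩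
    show h.psi k a ∈ h.fixA g
    rw [mem_fixA, h.psi_comm hgk.symm, h.mem_fixA.mp a.2]
  have h1 : Nat.card (h.fixA g) ≤ 4 := by
    have := Subgroup.index_mul_card f.ker
    rw [Subgroup.index_ker] at this
    have h22 := Nat.mul_le_mul hrange hker
    omega
  have h2 := h.card_range_mul_fix g
  have h3 := Subgroup.card_le_of_le hle
  have h4 : 4 ≤ Nat.card (h.fixA g) := by
    by_contra h4
    have h5 : Nat.card (h.psi g).range * Nat.card (h.fixA g) ≤ 3 * 3 :=
      Nat.mul_le_mul (by omega) (by omega)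
    omega
  have h6 : Nat.card (h.fixA g) = 4 := by omega
  refine ⟨(Subgroup.eq_of_le_of_card_ge hle ?_).ge, h6⟩
  rw [h6] at h2 ⊢
  omega

theorem card_fix {g : A5} (hg : g ∈ fourV) (hg1 : g ≠ 1) : Nat.card (h.fixA g) = 4 :=
  (h.z_mem_range hg hg1).2

/-- The hyperplane. -/
noncomputable def W : Subgroup A := (Subgroup.zpowers h.z).comap (h.psi s1)

theorem mem_zpowers_z {a : A} : a ∈ Subgroup.zpowers h.z ↔ a = 1 ∨ a = h.z := by
  refine ⟨fun ha => ?_, ?_⟩
  · obtain ⟨i, rfl⟩ := Subgroup.mem_zpowers_iff.mp ha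
    rcases Int.even_or_odd' i with ⟨j, rfl | rfl⟩
    · left; rw [zpow_mul, zpow_two, h.sqA, one_zpow]
    · right; rw [zpow_add, zpow_mul, zpow_two, h.sqA, one_zpow, one_mul, zpow_one]
  · rintro (rfl | rfl)
    exacts [one_mem _, Subgroup.mem_zpowers _]

theorem mem_W {a : A} : a ∈ h.W ↔ h.psi s1 a = 1 ∨ h.psi s1 a = h.z := h.mem_zpowers_z

theorem fix_le_W {g : A5} (hg : g ∈ fourV) (hg1 : g ≠ 1) : h.fixA g ≤ h.W := by
  intro a ha
  rw [mem_W]
  by_cases e : g = s1
  · left; exact h.psi_eq_one.mpr (e ▸ ha)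
  · refine h.act_eq_of_two hg s1_mem hg1 five_facts.1.1 e ?_ (h.psi_mem_fix (four_facts s1 s1_mem).1 a)
    rw [mem_fixA, h.psi_comm (four_facts g hg).2.1.symm, h.mem_fixA.mp ha]

theorem card_comap {g : A5} (hg : g ∈ fourV) (hg1 : g ≠ 1) :
    Nat.card ((Subgroup.zpowers h.z).comap (h.psi g) : Subgroup A) = 8 := by
  set L : Subgroup A := (Subgroup.zpowers h.z).comap (h.psi g)
  have hL : h.fixA g ≤ L := fun a ha => by
    show h.psi g a ∈ Subgroup.zpowers h.z
    rw [h.psi_eq_one.mpr ha]; exact one_mem _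
  obtain ⟨a, ha⟩ := (h.z_mem_range hg hg1).1 (h.z_mem_fix hg)
  have haL : a ∈ L := by show h.psi g a ∈ Subgroup.zpowers h.z; rw [ha]; exact Subgroup.mem_zpowers _
  have hne : Nat.card (h.fixA g) < Nat.card L := by
    refine lt_of_le_of_ne (Subgroup.card_le_of_le hL) fun e => h.z_ne ?_
    rw [← ha]
    exact h.psi_eq_one.mpr ((Subgroup.eq_of_le_of_card_ge hL e.ge) ▸ haL)
  have hlt : Nat.card L < 16 := by
    rw [← h.card16]
    refine lt_of_le_of_ne (Subgroup.card_le_card_group L) fun e => ?_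
    have htop := Subgroup.eq_top_of_card_eq L e
    have h2 : Nat.card (h.fixA g) ≤ Nat.card (Subgroup.zpowers h.z) := by
      refine Subgroup.card_le_of_le fun c hc => ?_
      obtain ⟨b, rfl⟩ := (h.z_mem_range hg hg1).1 hc
      exact (htop.ge (Subgroup.mem_top b) : b ∈ L)
    rw [h.card_fix hg hg1, Nat.card_zpowers, orderOf_eq_prime (p := 2)
      (by rw [sq]; exact h.sqA _) h.z_ne] at h2
    omega
  have hd1 := Subgroup.card_dvd_of_le hL
  have hd2 : Nat.card L ∣ 16 := h.card16 ▸ Subgroup.card_subgroup_dvd_card L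
  rw [h.card_fix hg hg1] at hne hd1
  obtain ⟨k, hk⟩ := hd1
  rw [hk] at hd2 hlt hne ⊢
  have : k = 2 ∨ k = 3 := by omega
  rcases this with rfl | rfl
  · rfl
  · norm_num at hd2

theorem card_W : Nat.card h.W = 8 := h.card_comap s1_mem five_facts.1.1

theorem W_eq_comap {g : A5} (hg : g ∈ fourV) (hg1 : g ≠ 1) :
    h.W = (Subgroup.zpowers h.z).comap (h.psi g) := by
  by_cases e : g = s1
  · rw [e]; rfl
  set L : Subgroup A := (Subgroup.zpowers h.z).comap (h.psi g)
  set K : Subgroup A := h.fixA s1 ⊔ h.fixA g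
  have hKW : K ≤ h.W := sup_le (h.fix_le_W s1_mem five_facts.1.1) (h.fix_le_W hg hg1)
  have hKL : K ≤ L := by
    refine sup_le (fun a ha => ?_) fun a ha => ?_
    · show h.psi g a ∈ Subgroup.zpowers h.z
      rw [mem_zpowers_z]
      refine h.act_eq_of_two s1_mem hg five_facts.1.1 hg1 (Ne.symm e) ?_
        (h.psi_mem_fix (four_facts g hg).1 a)
      rw [mem_fixA, h.psi_comm (four_facts g hg).2.1, h.mem_fixA.mp ha]
    · show h.psi g a ∈ Subgroup.zpowers h.z
      rw [h.psi_eq_one.mpr ha]; exact one_mem _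
  have h4 : 4 < Nat.card K := by
    refine lt_of_le_of_ne (le_trans (h.card_fix hg hg1).ge (Subgroup.card_le_of_le le_sup_right))
      fun e4 => ?_
    have e1 : h.fixA g = K := Subgroup.eq_of_le_of_card_ge le_sup_right
      (by rw [← e4, h.card_fix hg hg1])
    have e2 : h.fixA s1 = K := Subgroup.eq_of_le_of_card_ge le_sup_left
      (by rw [← e4, h.card_fix s1_mem five_facts.1.1])
    have h3 : Nat.card (h.fixA g) ≤ Nat.card (Subgroup.zpowers h.z) :=
      Subgroup.card_le_of_le fun a ha => h.mem_zpowers_z.mpr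
        (h.act_eq_of_two hg s1_mem hg1 five_facts.1.1 e ha (e2.symm ▸ e1 ▸ ha))
    rw [h.card_fix hg hg1, Nat.card_zpowers, orderOf_eq_prime (p := 2)
      (by rw [sq]; exact h.sqA _) h.z_ne] at h3
    omega
  have hd := Subgroup.card_dvd_of_le hKW
  rw [h.card_W] at hd
  have h8 : Nat.card K = 8 := by
    have := Nat.le_of_dvd (by norm_num) hd
    interval_cases (Nat.card K) <;> omega
  exact (Subgroup.eq_of_le_of_card_ge hKW (by rw [h8, h.card_W])).symm.trans
    (Subgroup.eq_of_le_of_card_ge hKL (by rw [h8, h.card_comap hg hg1]))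

theorem act_t3_z : h.act t3 h.z = h.z := by
  refine (h.act_eq_of_two s1_mem s2_mem five_facts.1.1 five_facts.1.2.1 five_facts.1.2.2.2.1
    ?_ ?_).resolve_left (fun e => h.z_ne ((h.act t3).injective (by rw [e, map_one])))
  all_goals
    rw [mem_fixA, act_act]
    first
      | rw [show s1 * t3 = t3 * (t3⁻¹ * s1 * t3) by group, ← act_act,
          h.act_four_z (mem_fourV.mpr (four_facts s1 s1_mem).2.2.2.2.1)]
      | rw [show s2 * t3 = t3 * (t3⁻¹ * s2 * t3) by group, ← act_act,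
          h.act_four_z (mem_fourV.mpr (four_facts s2 s2_mem).2.2.2.2.1)]

/-! ### The orbits -/

/-- The stabiliser of `a`. -/
noncomputable def stab (a : A) : Subgroup A5 where
  carrier := {g | h.act g a = a}
  one_mem' := h.act_one a
  mul_mem' := fun {g k} hg hk => by
    show h.act (g * k) a = a
    rw [← act_act, hk, hg]
  inv_mem' := fun {g} hg => by
    show h.act g⁻¹ a = a
    conv_lhs => rw [← (show h.act g a = a from hg)]
    rw [act_act, inv_mul_cancel, act_one]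

theorem mem_stab {a : A} {g : A5} : g ∈ h.stab a ↔ h.act g a = a := Iff.rfl

/-- The orbit of `a`. -/
def orb (a : A) : Set A := {b | ∃ g, h.act g a = b}

theorem ncard_orb (a : A) : (h.orb a).ncard = (h.stab a).index := by
  rw [← Nat.card_coe_set_eq, Subgroup.index_eq_card]
  refine (Nat.card_congr (Equiv.ofBijective (fun q : A5 ⧸ h.stab a => (⟨Quotient.liftOn q
    (fun g => h.act g a) (fun g k e => ?_), ?_⟩ : h.orb a)) ⟨?_, ?_⟩)).symm
  · have h1 : g⁻¹ * k ∈ h.stab a := QuotientGroup.leftRel_apply.mp e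
    rw [mem_stab, ← act_act] at h1
    have h2 := congrArg (h.act g) h1
    rwa [h.act_act, mul_inv_cancel, act_one, eq_comm] at h2
  · induction q using Quotient.inductionOn with
    | h g => exact ⟨g, rfl⟩
  · intro q q'
    induction q using Quotient.inductionOn with
    | h g => induction q' using Quotient.inductionOn with
      | h k =>
        intro e
        refine Quotient.sound (QuotientGroup.leftRel_apply.mpr ?_)
        have e' : h.act g a = h.act k a := congrArg Subtype.val e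
        rw [mem_stab, ← act_act, ← e', act_act, inv_mul_cancel, act_one]
  · rintro ⟨b, g, rfl⟩
    exact ⟨Quotient.mk _ g, rfl⟩

theorem four_le_stab_z : fourV ≤ h.stab h.z := fun _ hg => h.act_four_z hg

theorem card_stab_z : Nat.card (h.stab h.z) = 12 := by
  have h4 : 4 ∣ Nat.card (h.stab h.z) := card_fourV ▸ Subgroup.card_dvd_of_le h.four_le_stab_z
  have h3 : 3 ∣ Nat.card (h.stab h.z) := orderOf_t3 ▸ Nat.card_zpowers t3 ▸
    Subgroup.card_dvd_of_le (Subgroup.zpowers_le.mpr (show t3 ∈ h.stab h.z from h.act_t3_z))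
  have h12 : 12 ∣ Nat.card (h.stab h.z) :=
    (show Nat.Coprime 4 3 by norm_num).mul_dvd_of_dvd_of_dvd h4 h3
  have hne : h.stab h.z ≠ ⊤ := by
    intro htop
    -- an element of order five fixing `z` would fix `A`
    set F := h.fixA c5
    have hzF : h.z ∈ F := (htop.ge (Subgroup.mem_top c5) : c5 ∈ h.stab h.z)
    have hF2 : 1 < Nat.card F := (F.one_lt_card_iff_ne_bot).mpr fun hb =>
      h.z_ne (Subgroup.mem_bot.mp (hb ▸ hzF))
    have hFd : Nat.card F ∣ 16 := h.card16 ▸ Subgroup.card_subgroup_dvd_card F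
    letI : MulAction (Subgroup.zpowers c5) A :=
      { smul := fun g a => h.act (g : A5) a
        one_smul := fun a => h.act_one a
        mul_smul := fun g k a => (h.act_act a).symm }
    haveI : Fact (Nat.Prime 5) := ⟨by norm_num⟩
    have hmod := (IsPGroup.of_card (n := 1) (by rw [Nat.card_zpowers, orderOf_c5, pow_one]) :
      IsPGroup 5 (Subgroup.zpowers c5)).card_modEq_card_fixedPoints A
    have hfix : Nat.card (MulAction.fixedPoints (Subgroup.zpowers c5) A) = Nat.card F := by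
      refine Nat.card_congr (Equiv.subtypeEquivRight fun a => ?_)
      refine ⟨fun ha => ha ⟨c5, Subgroup.mem_zpowers c5⟩, fun ha g => ?_⟩
      exact (Subgroup.zpowers_le.mpr (show c5 ∈ h.stab a from ha) g.2 : (g : A5) ∈ h.stab a)
    rw [hfix, h.card16, Nat.ModEq] at hmod
    have hF16 : Nat.card F = 16 := by
      have := Nat.le_of_dvd (by norm_num) hFd
      interval_cases (Nat.card F) <;> omega
    refine five_facts.2.2.2.2.2.1 (h.act_injective ?_)
    rw [map_one]
    refine MulEquiv.ext fun a => ?_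
    exact (Subgroup.eq_top_of_card_eq F (hF16.trans h.card16.symm)).ge (Subgroup.mem_top a)
  obtain ⟨m, hm⟩ := h12
  have hmul := (h.stab h.z).card_mul_index
  rw [hm, card_A5] at hmul
  have hidx : 5 ≤ (h.stab h.z).index := by
    by_contra hlt
    exact hne (eq_top_of_index_lt (by omega))
  have hm1 : 1 ≤ m := by rcases m with _ | m <;> simp_all
  have hm2 : m * 5 ≤ m * (h.stab h.z).index := Nat.mul_le_mul le_rfl hidx
  rw [mul_assoc] at hmul
  omega

theorem ncard_orb_z : (h.orb h.z).ncard = 5 := by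
  rw [h.ncard_orb]
  have hmul := (h.stab h.z).card_mul_index
  rw [h.card_stab_z, card_A5] at hmul
  omega

theorem eq_of_stab_z {g : A5} (hg : g ∈ h.stab h.z) :
    ∃ i : Fin 3, ∃ v ∈ fourV, g = t3 ^ (i : ℕ) * v := by
  have hmem : ∀ p : Fin 3 × fourV, t3 ^ (p.1 : ℕ) * (p.2 : A5) ∈ h.stab h.z := fun p =>
    mul_mem (pow_mem (show t3 ∈ h.stab h.z from h.act_t3_z) _) (h.four_le_stab_z p.2.2)
  have hinj : Function.Injective fun p : Fin 3 × fourV =>
      (⟨_, hmem p⟩ : h.stab h.z) := by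
    rintro ⟨i, g⟩ ⟨j, k⟩ e
    obtain ⟨h1, h2⟩ := four_product_injective i j g k g.2 k.2 (congrArg Subtype.val e)
    exact Prod.ext h1 (Subtype.ext h2)
  have hb := (Nat.bijective_iff_injective_and_card _).mpr ⟨hinj, by
    rw [Nat.card_prod, Nat.card_fin, card_fourV, h.card_stab_z]⟩
  obtain ⟨⟨i, v⟩, he⟩ := hb.2 ⟨g, hg⟩
  exact ⟨i, v, v.2, (congrArg Subtype.val he).symm⟩

theorem eq_z_of_fix {g : A5} (hg : g ∈ fourV) (hg1 : g ≠ 1) {c : A} (hc : c ∈ h.fixA g)
    (hO : c ∈ h.orb h.z) : c = h.z := by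
  suffices key : ∀ c : A, c ∈ h.fixA s1 → c ∈ h.orb h.z → c = h.z by
    obtain ⟨i, hi⟩ := (four_facts g hg).2.2.2.2.2.resolve_left hg1
    have h1 := key _ (hi ▸ h.act_map_fix (x := t3 ^ (i : ℕ)) hc) (by
      obtain ⟨k, rfl⟩ := hO
      exact ⟨t3 ^ (i : ℕ) * k, by rw [act_act]⟩)
    have hpz : h.act (t3 ^ (i : ℕ)) h.z = h.z :=
      pow_mem (show t3 ∈ h.stab h.z from h.act_t3_z) _
    rw [← hpz] at h1
    exact (h.act _).injective h1
  intro c hc hO
  by_contra hne
  have hc1 : c ≠ 1 := by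
    rintro rfl
    obtain ⟨k, hk⟩ := hO
    exact h.z_ne ((h.act k).injective (hk.trans (map_one _).symm))
  set k1 := t3 * s1 * t3⁻¹
  set k2 := t3 * t3 * s1 * (t3 * t3)⁻¹
  have hk1V : k1 ∈ fourV := (four_facts s1 s1_mem).2.2.2.1
  have hk2V : k2 ∈ fourV := by
    have := (four_facts k1 hk1V).2.2.2.1
    rwa [show t3 * k1 * t3⁻¹ = k2 by simp only [k1, k2]; group] at this
  set d := h.act t3 c
  set e := h.act (t3 * t3) c
  have hd : d ∈ h.fixA k1 := h.act_map_fix hc
  have he : e ∈ h.fixA k2 := h.act_map_fix hc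
  have horb : ∀ x, h.act x c ∈ h.orb h.z := by
    intro x
    obtain ⟨k, rfl⟩ := hO
    exact ⟨x * k, by rw [act_act]⟩
  have htz : ∀ x ∈ h.stab h.z, h.act x c ≠ h.z ∧ h.act x c ≠ 1 := fun x hx =>
    ⟨fun e => hne ((h.act x).injective (e.trans (h.mem_stab.mp hx).symm)),
      fun e => hc1 ((h.act x).injective (e.trans (map_one _).symm))⟩
  have ht : t3 ∈ h.stab h.z := h.act_t3_z
  have hcz : h.act s2 c = c * h.z := by
    have h1 : h.psi s2 c = h.z := by
      refine (h.act_eq_of_two s1_mem s2_mem five_facts.1.1 five_facts.1.2.1 five_facts.1.2.2.2.1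
        ?_ (h.psi_mem_fix (four_facts s2 s2_mem).1 c)).resolve_left fun e1 => hne ?_
      · rw [mem_fixA, h.psi_comm (four_facts s2 s2_mem).2.1, h.mem_fixA.mp hc]
      · exact (h.act_eq_of_two s1_mem s2_mem five_facts.1.1 five_facts.1.2.1
          five_facts.1.2.2.2.1 hc (h.psi_eq_one.mp e1)).resolve_left hc1
    rw [← h1, psi_apply, h.commA (h.act s2 c) c, ← mul_assoc, h.sqA, one_mul]
  have hdz : h.act t3 (c * h.z) = d * h.z := by rw [map_mul, h.act_t3_z]
  have hsep : ∀ {g k : A5} {x : A}, g ∈ fourV → k ∈ fourV → g ≠ 1 → k ≠ 1 → g ≠ k →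
      x ∈ h.fixA g → x ≠ 1 → x ≠ h.z → x ∉ h.fixA k := by
    intro g k x hgV hkV hg1 hk1 hgk hx hx1 hxz hx'
    rcases h.act_eq_of_two hgV hkV hg1 hk1 hgk hx hx' with e0 | e0
    exacts [hx1 e0, hxz e0]
  have hd' := htz t3 ht
  have he' := htz (t3 * t3) (mul_mem ht ht)
  have hczne : c * h.z ≠ h.z ∧ c * h.z ≠ c ∧ c * h.z ≠ 1 := by
    refine ⟨fun e0 => hc1 ?_, fun e0 => h.z_ne ?_, fun e0 => hne ?_⟩
    · exact mul_eq_right.mp e0
    · exact mul_eq_left.mp e0
    · rw [eq_inv_of_mul_eq_one_left e0, h.invA]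
  have hdzne : d * h.z ≠ h.z ∧ d * h.z ≠ d ∧ d * h.z ≠ 1 := by
    refine ⟨fun e0 => hd'.2 ?_, fun e0 => h.z_ne ?_, fun e0 => hd'.1 ?_⟩
    · exact mul_eq_right.mp e0
    · exact mul_eq_left.mp e0
    · show d = h.z
      rw [eq_inv_of_mul_eq_one_left e0, h.invA]
  have hcF : c * h.z ∈ h.fixA s1 := mul_mem hc (h.z_mem_fix s1_mem)
  have hdF : d * h.z ∈ h.fixA k1 := mul_mem hd (h.z_mem_fix hk1V)
  have q1 : ∀ x ∈ h.fixA s1, x ≠ 1 → x ≠ h.z → x ∉ h.fixA k1 ∧ x ∉ h.fixA k2 := fun x hx a b =>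
    ⟨hsep s1_mem hk1V five_facts.1.1 four_conj.1 four_conj.2.1.symm hx a b,
      hsep s1_mem hk2V five_facts.1.1 four_conj.2.2.1 four_conj.2.2.2.1.symm hx a b⟩
  have q2 : ∀ x ∈ h.fixA k1, x ≠ 1 → x ≠ h.z → x ∉ h.fixA k2 := fun x hx a b =>
    hsep hk1V hk2V four_conj.1 four_conj.2.2.1 four_conj.2.2.2.2.symm hx a b
  have hc' := q1 c hc hc1 hne
  have hcz' := q1 _ hcF hczne.2.2 hczne.1
  have hd'' := q2 d hd hd'.2 hd'.1
  have hdz' := q2 _ hdF hdzne.2.2 hdzne.1
  classical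
  have hcard : ({h.z, c, c * h.z, d, d * h.z, e} : Finset A).card = 6 := by
    rw [Finset.card_insert_of_notMem, Finset.card_insert_of_notMem, Finset.card_insert_of_notMem,
      Finset.card_insert_of_notMem, Finset.card_insert_of_notMem, Finset.card_singleton]
    · simp only [Finset.mem_singleton]
      exact fun e0 => hdz' (e0 ▸ he)
    · simp only [Finset.mem_insert, Finset.mem_singleton, not_or]
      exact ⟨hdzne.2.1.symm, fun e0 => hd'' (e0 ▸ he)⟩
    · simp only [Finset.mem_insert, Finset.mem_singleton, not_or]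
      exact ⟨fun e0 => hcz'.1 (e0 ▸ hd), fun e0 => hcz'.1 (e0 ▸ hdF), fun e0 => hcz'.2 (e0 ▸ he)⟩
    · simp only [Finset.mem_insert, Finset.mem_singleton, not_or]
      exact ⟨hczne.2.1.symm, fun e0 => hc'.1 (e0 ▸ hd), fun e0 => hc'.1 (e0 ▸ hdF),
        fun e0 => hc'.2 (e0 ▸ he)⟩
    · simp only [Finset.mem_insert, Finset.mem_singleton, not_or]
      exact ⟨fun e0 => hne e0.symm, hczne.1.symm, hd'.1.symm, hdzne.1.symm, he'.1.symm⟩
  have hsub : (↑({h.z, c, c * h.z, d, d * h.z, e} : Finset A) : Set A) ⊆ h.orb h.z := by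
    simp only [Finset.coe_insert, Finset.coe_singleton, Set.insert_subset_iff,
      Set.singleton_subset_iff]
    refine ⟨⟨1, h.act_one _⟩, by simpa using horb 1, hcz ▸ horb s2, horb t3, ?_, horb _⟩
    rw [← hdz, ← hcz, act_act]
    exact horb _
  have := Set.ncard_le_ncard hsub (Set.toFinite _)
  rw [Set.ncard_coe_finset, hcard, h.ncard_orb_z] at this
  omega

theorem not_orb_one : (1 : A) ∉ h.orb h.z := fun ⟨k, hk⟩ =>
  h.z_ne ((h.act k).injective (hk.trans (map_one _).symm))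

theorem ncard_rest : ({a : A | a ≠ 1 ∧ a ∉ h.orb h.z}).ncard = 10 := by
  have h1 : {a : A | a ≠ 1 ∧ a ∉ h.orb h.z} = (insert 1 (h.orb h.z))ᶜ := by
    ext a; simp
  rw [h1, Set.ncard_compl, Set.ncard_insert_of_notMem h.not_orb_one, h.ncard_orb_z, h.card16]

theorem rest_facts {a : A} (ha1 : a ≠ 1) (ha : a ∉ h.orb h.z) :
    Nat.card (h.stab a) = 6 ∧ ∀ b : A, b ≠ 1 → b ∉ h.orb h.z → b ∈ h.orb a := by
  have hinv : ∀ a : A, a ≠ 1 → a ∉ h.orb h.z →
      h.orb a ⊆ {a : A | a ≠ 1 ∧ a ∉ h.orb h.z} ∧ ¬ 4 ∣ Nat.card (h.stab a) := by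
    intro a ha1 ha
    refine ⟨?_, fun h4 => ?_⟩
    · rintro _ ⟨g, rfl⟩
      refine ⟨fun e => ha1 ((h.act g).injective (e.trans (map_one _).symm)), fun ⟨k, hk⟩ => ha ?_⟩
      exact ⟨g⁻¹ * k, by rw [← act_act, hk, act_act, inv_mul_cancel, act_one]⟩
    obtain ⟨K, hK⟩ := Sylow.exists_subgroup_card_pow_prime 2 (n := 2) (G := h.stab a)
      (by norm_num; exact h4)
    have hK' : Nat.card (K.map (h.stab a).subtype) = 4 := by
      rw [Subgroup.card_map_of_injective Subtype.val_injective, hK]; norm_num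
    have hKp : IsPGroup 2 (K.map (h.stab a).subtype) :=
      IsPGroup.of_card (n := 2) (by rw [hK']; norm_num)
    obtain ⟨l, -, hl⟩ := fourV_isSyl.exists_conj le_top hKp
    have hmap : (K.map (h.stab a).subtype).map (MulAut.conj l).toMonoidHom = fourV :=
      Subgroup.eq_of_le_of_card_ge (by rintro _ ⟨x, hx, rfl⟩; exact hl x hx) (by
        rw [Subgroup.card_map_of_injective (MulAut.conj l).injective, hK', card_fourV])
    have hfix : ∀ v ∈ fourV, h.act l a ∈ h.fixA v := by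
      intro v hv
      rw [← hmap] at hv
      obtain ⟨x, hx, rfl⟩ := hv
      exact h.act_map_fix (g := x) (show a ∈ h.fixA x from (Subgroup.map_subtype_le K hx : x ∈ h.stab a))
    rcases h.act_eq_of_two s1_mem s2_mem five_facts.1.1 five_facts.1.2.1 five_facts.1.2.2.2.1
      (hfix _ s1_mem) (hfix _ s2_mem) with e | e
    · exact ha1 ((h.act l).injective (e.trans (map_one _).symm))
    · exact ha ⟨l⁻¹, by rw [← e, act_act, inv_mul_cancel, act_one]⟩
  have hsz : ∀ a : A, a ≠ 1 → a ∉ h.orb h.z →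
      5 ≤ (h.stab a).index ∧ (h.stab a).index ≤ 10 ∧
      ((h.stab a).index = 10 ∨ (h.stab a).index = 6) := by
    intro a ha1 ha
    obtain ⟨hsub, h4⟩ := hinv a ha1 ha
    have h10 : (h.stab a).index ≤ 10 := by
      rw [← h.ncard_orb, ← h.ncard_rest]; exact Set.ncard_le_ncard hsub (Set.toFinite _)
    have hne : h.stab a ≠ ⊤ := fun e => h4 (by rw [e, Subgroup.card_top, card_A5]; norm_num)
    have h5 : 5 ≤ (h.stab a).index := by
      by_contra hlt; exact hne (eq_top_of_index_lt (by omega))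
    refine ⟨h5, h10, ?_⟩
    have hmul := (h.stab a).card_mul_index
    rw [card_A5] at hmul
    interval_cases hi : (h.stab a).index <;> omega
  obtain ⟨-, -, hd⟩ := hsz a ha1 ha
  have hfull : (h.stab a).index = 10 := by
    refine hd.resolve_right fun h6 => ?_
    have hlt : (h.orb a).ncard < ({a : A | a ≠ 1 ∧ a ∉ h.orb h.z}).ncard := by
      rw [h.ncard_orb, h6, h.ncard_rest]; norm_num
    obtain ⟨b, ⟨hb1, hb⟩, hba⟩ := Set.exists_mem_notMem_of_ncard_lt_ncard hlt (Set.toFinite _)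
    have hdis : Disjoint (h.orb a) (h.orb b) := by
      rw [Set.disjoint_left]
      rintro x ⟨g, rfl⟩ ⟨k, hk⟩
      exact hba ⟨k⁻¹ * g, by rw [← act_act, ← hk, act_act, inv_mul_cancel, act_one]⟩
    have hu : (h.orb a ∪ h.orb b).ncard ≤ 10 := by
      rw [← h.ncard_rest]
      exact Set.ncard_le_ncard (Set.union_subset (hinv a ha1 ha).1 (hinv b hb1 hb).1) (Set.toFinite _)
    rw [Set.ncard_union_eq hdis (Set.toFinite _) (Set.toFinite _), h.ncard_orb, h.ncard_orb, h6] at hu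
    have := (hsz b hb1 hb).1
    omega
  refine ⟨?_, fun b hb1 hb => ?_⟩
  · have hmul := (h.stab a).card_mul_index
    rw [hfull, card_A5] at hmul
    omega
  · have := Set.eq_of_subset_of_ncard_le (hinv a ha1 ha).1
      (by rw [h.ncard_rest, h.ncard_orb, hfull]) (Set.toFinite _)
    rw [this]
    exact ⟨hb1, hb⟩

end Setting

end CfsgLib.EightType55
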