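import Cfsg.Agent.EightType55.CentralGood
import Cfsg.Agent.ZStar.QDWreathed

/-!
The other involutions of `A`, balance, and the centralizer of an involution outside `A`.
-/

set_option autoImplicit false
set_option linter.style.haveILetI false
set_option linter.unusedSectionVars false

universe u

namespace CfsgLib.EightType55

open Cfsg
open CfsgLib.StronglyEmbedded (orderOf_two_iff)

variable {G : Type u} [Group G] [Finite G] {A : Subgroup G}

local instance : Fact (Nat.Prime 2) := ⟨Nat.prime_two⟩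

theorem three_conj : ∀ x : A5, x * x * x = 1 → x ≠ 1 →
    ∃ g : A5, g * t3 * g⁻¹ = x ∨ g * (t3 * t3) * g⁻¹ = x := by
  decide +kernel

/-- Glauberman's theorem, relative to a subgroup. -/
theorem decomp_of_no_fusion {L P : Subgroup G} (hP : IsSyl L P) {t : G} (htP : t ∈ P)
    (ht : orderOf t = 2) (hiso : ∀ g ∈ L, g * t * g⁻¹ ∈ P → g * t * g⁻¹ = t) :
    ∀ g ∈ L, ∃ o ∈ coreOf L, ∃ c ∈ L, c ∈ cen t ∧ g = o * c := by
  obtain ⟨S, hS⟩ := hP.exists_sylow
  have hmem : ∀ x : L, x ∈ (S : Subgroup L) ↔ (x : G) ∈ P := fun x => by rw [hS]; rfl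
  set t' : L := ⟨t, hP.1 htP⟩ with ht'
  have ht2 : orderOf t' = 2 := by rw [ht', Subgroup.orderOf_mk]; exact ht
  have hz : InZStar 2 t' := ZStar.inZStar_of_no_fusion ht2 S fun g hg =>
    Subtype.ext (hiso g g.2 ((hmem _).mp hg))
  have hz' : ∀ w ∈ Subgroup.zpowers t', InZStar 2 w := by
    rintro w ⟨k, rfl⟩
    have hsq : t' * t' = 1 := (orderOf_two_iff.mp ht2).1
    obtain ⟨m, rfl | rfl⟩ := Int.even_or_odd' k
    · intro g
      show g * t' ^ (2 * m) * g⁻¹ * (t' ^ (2 * m))⁻¹ ∈ _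
      rw [zpow_mul, zpow_two, hsq, one_zpow, mul_one, mul_inv_cancel, inv_one, one_mul]
      exact one_mem _
    · intro g
      show g * t' ^ (2 * m + 1) * g⁻¹ * (t' ^ (2 * m + 1))⁻¹ ∈ _
      rw [zpow_add_one, zpow_mul, zpow_two, hsq, one_zpow, one_mul]
      exact hz g
  intro g hg
  obtain ⟨o, ho, c, hc, he⟩ := ZStar.exists_mul_centralizer
    (Subgroup.zpowers_le.mpr ((hmem t').mpr htP)) hz' (⟨g, hg⟩ : L)
  refine ⟨o, ⟨o, ho, rfl⟩, c, c.2, Subgroup.mem_centralizer_singleton_iff.mpr ?_,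
    congrArg Subtype.val he⟩
  exact (congrArg Subtype.val (Subgroup.mem_centralizer_iff.mp hc t' (Subgroup.mem_zpowers t'))).symm

namespace Setting

variable (h : Setting A)

theorem mem_stab_of_comm {n : G} {a : A} (hn : n ∈ Subgroup.normalizer (A : Set G))
    (hc : n * a = a * n) : h.φ ⟨n, hn⟩ ∈ h.stab a :=
  Subtype.ext (by rw [h.act_apply' hn, hc, mul_inv_cancel_right])

include h in
theorem le_cen {a : G} (ha : a ∈ A) : A ≤ cen a := fun b hb =>
  Subgroup.mem_centralizer_singleton_iff.mpr (h.commG hb ha)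

theorem good_orb {a b : A} (hb : b ∈ h.orb a) (hg : Good A (cen (a : G))) :
    Good A (cen (b : G)) := by
  obtain ⟨g, rfl⟩ := hb
  obtain ⟨n, hn, rfl⟩ := h.exists_lift g
  rw [h.act_apply' hn]
  exact hg.conj hn

theorem img_eq_of_fix {s t : G} (hs : s ∈ (h.S : Subgroup G)) (ht : t ∈ (h.S : Subgroup G))
    (hsA : s ∉ A) (htA : t ∉ A) {a : A} (ha1 : a ≠ 1) (haz : a ≠ h.z)
    (hsa : s * a = a * s) (hta : t * a = a * t) : h.img hs = h.img ht := by
  by_contra hne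
  rcases h.act_eq_of_two (h.img_mem hs) (h.img_mem ht) (h.img_ne hs hsA) (h.img_ne ht htA) hne
    ((h.mem_fix_iff hs a).mpr hsa) ((h.mem_fix_iff ht a).mpr hta) with e | e
  exacts [ha1 e, haz e]

/-- A representative of the second orbit. -/
theorem exists_rest : ∃ c : A, c ∈ h.fixA s1 ∧ c ≠ 1 ∧ c ∉ h.orb h.z := by
  obtain ⟨a, ha, ha1⟩ : ∃ a ∈ h.fixA s1, a ∉ ({1, h.z} : Set A) := by
    refine Set.exists_mem_notMem_of_ncard_lt_ncard ?_ (Set.toFinite _)
    rw [← Nat.card_coe_set_eq (h.fixA s1 : Set A)]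
    refine lt_of_le_of_lt (Set.ncard_insert_le _ _) ?_
    rw [Set.ncard_singleton]
    exact lt_of_lt_of_le (by norm_num) (h.card_fix s1_mem five_facts.1.1).ge
  simp only [Set.mem_insert_iff, Set.mem_singleton_iff, not_or] at ha1
  exact ⟨a, ha, ha1.1, fun hO => ha1.2 (h.eq_z_of_fix s1_mem five_facts.1.1 ha hO)⟩

include h in
theorem good_rest {a : A} (hfa : a ∈ h.fixA s1) (ha1 : a ≠ 1) (haO : a ∉ h.orb h.z) :
    Good A (cen (a : G)) := by
  have haz : a ≠ h.z := fun e => haO (e ▸ ⟨1, h.act_one _⟩)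
  obtain ⟨u, hu, hu2, hug⟩ := h.exists_inv s1_mem five_facts.1.1
  have huA : u ∉ A := fun hA => five_facts.1.1 (by rw [← hug]; exact (h.img_eq_one hu).mpr hA)
  have hua : u * a = a * u := (h.mem_fix_iff hu a).mp (hug ▸ hfa)
  set P := (h.S : Subgroup G) ⊓ cen (a : G) with hPdef
  have hAP : A ≤ P := le_inf h.hAS (h.le_cen a.2)
  have huP : u ∈ P := Subgroup.mem_inf.mpr ⟨hu, Subgroup.mem_centralizer_singleton_iff.mpr hua⟩
  have hPcases : ∀ p ∈ P, p ∉ A → u * p ∈ A := by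
    intro p hp hpA
    rw [← h.img_eq_one (mul_mem hu hp.1), h.img_mul hu hp.1,
      ← h.img_eq_of_fix hu hp.1 huA hpA ha1 haz hua
        (Subgroup.mem_centralizer_singleton_iff.mp hp.2), four_mul_self (h.img_mem hu)]
  have hsylP : IsSyl (cen (a : G)) P := by
    refine ⟨inf_le_right, h.S.2.to_le inf_le_left, fun Q hQ hQ2 hPQ q hq => ?_⟩
    obtain ⟨x, -, hx⟩ :=
      (isSyl_of_sylow h.S (le_top : (h.S : Subgroup G) ≤ ⊤)).exists_conj le_top hQ2
    have hxN : x ∈ Subgroup.normalizer (A : Set G) :=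
      h.mem_normalizer_of_le h.S.2 h.hAS fun b hb => hx b (hPQ (hAP hb))
    by_cases hqA : q ∈ A
    · exact hAP hqA
    set a' : A := h.act (h.φ ⟨x, hxN⟩) a with ha'
    have ha'1 : a' ≠ 1 := fun e => ha1 ((h.act _).injective (e.trans (map_one _).symm))
    have ha'z : a' ≠ h.z := fun e => haO
      ⟨(h.φ ⟨x, hxN⟩)⁻¹, by rw [← e, ha', act_act, inv_mul_cancel, act_one]⟩
    have hcomm : ∀ p ∈ Q, x * p * x⁻¹ * a' = a' * (x * p * x⁻¹) := fun p hp => by
      rw [ha', h.act_apply' hxN, show x * p * x⁻¹ * (x * (a : G) * x⁻¹) = x * (p * a) * x⁻¹ by group,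
        Subgroup.mem_centralizer_singleton_iff.mp (hQ hp)]
      group
    have hnA : ∀ p : G, p ∉ A → x * p * x⁻¹ ∉ A := fun p hp hc =>
      hp ((Subgroup.mem_normalizer_iff.mp hxN p).mpr hc)
    have he := h.img_eq_of_fix (hx u (hPQ huP)) (hx q hq) (hnA u huA) (hnA q hqA) ha'1 ha'z
      (hcomm u (hPQ huP)) (hcomm q hq)
    have huq : x * (u * q) * x⁻¹ ∈ A := by
      rw [show x * (u * q) * x⁻¹ = (x * u * x⁻¹) * (x * q * x⁻¹) by group,
        ← h.img_eq_one (mul_mem (hx u (hPQ huP)) (hx q hq)),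
        h.img_mul (hx u (hPQ huP)) (hx q hq), he, four_mul_self (h.img_mem _)]
    have h3 := mul_mem huP (hAP ((Subgroup.mem_normalizer_iff.mp hxN _).mpr huq))
    rwa [← mul_assoc, hu2, one_mul] at h3
  have hQiff : ∀ p ∈ P, ∀ q ∈ P, (p * q ∈ A ↔ (p ∈ A ↔ q ∈ A)) := by
    intro p hp q hq
    by_cases hpA : p ∈ A
    · rw [A.mul_mem_cancel_left hpA]; simp [hpA]
    · by_cases hqA : q ∈ A
      · rw [A.mul_mem_cancel_right hqA]; simp [hpA, hqA]
      · refine iff_of_true ?_ (iff_of_false hpA hqA)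
        rw [← h.img_eq_one (mul_mem hp.1 hq.1), h.img_mul hp.1 hq.1,
          h.img_eq_of_fix hp.1 hq.1 hpA hqA ha1 haz (Subgroup.mem_centralizer_singleton_iff.mp hp.2)
            (Subgroup.mem_centralizer_singleton_iff.mp hq.2), four_mul_self (h.img_mem _)]
  obtain ⟨K, hK, hKn, huK, hKcov, hcrit⟩ := exists_index_two' hsylP huP hu2 huA hQiff
    (fun g _ _ hA => h.not_isConj hu huA hA (isConj_iff.mpr ⟨g, rfl⟩))
  have hAK : A ≤ K := fun b hb => (hcrit b (hAP hb) (h.sqG hb)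
    fun g _ hgP => iff_of_true (h.mem_A_of_conj hb hgP.1) hb).mpr hb
  have hKP : ∀ p ∈ P, p ∈ K → p ∈ A := fun p hp hpK => by
    by_contra hpA
    exact huK (by simpa using mul_mem (hAK (hPcases p hp hpA)) (inv_mem hpK))
  have hsylK : IsSyl K A := by
    refine ⟨hAK, h.isPGroupA, fun Q hQ hQ2 hAQ => ?_⟩
    obtain ⟨l, hl, hlP⟩ := hsylP.exists_conj (hQ.trans hK) hQ2
    have hle : Q.map (MulAut.conj l).toMonoidHom ≤ A := by
      rintro _ ⟨x, hx, rfl⟩
      exact hKP _ (hlP x hx) (hKn l hl x (hQ hx))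
    refine (Subgroup.eq_of_le_of_card_ge hAQ ?_).ge
    calc Nat.card Q = Nat.card (Q.map (MulAut.conj l).toMonoidHom) :=
          (Subgroup.card_map_of_injective (MulAut.conj l).injective).symm
      _ ≤ Nat.card A := Subgroup.card_le_of_le hle
  -- images of the elements of `K` normalising `A`
  have h6 := (h.rest_facts ha1 haO).1
  have himg : ∀ (n : G) (hn : n ∈ Subgroup.normalizer (A : Set G)), n ∈ K →
      h.φ ⟨n, hn⟩ * h.φ ⟨n, hn⟩ * h.φ ⟨n, hn⟩ = 1 := by
    intro n hn hnK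
    have hst := h.mem_stab_of_comm hn (Subgroup.mem_centralizer_singleton_iff.mp (hK hnK))
    set x := h.φ ⟨n, hn⟩ with hx
    have hx6 : x ^ 6 = 1 := by
      rw [← h6]
      exact congrArg Subtype.val (pow_card_eq_one' (x := (⟨x, hst⟩ : h.stab a)))
    have hx3 : h.φ ⟨n ^ 3, pow_mem hn 3⟩ = x ^ 3 := by rw [hx, ← map_pow]; rfl
    obtain ⟨p, q, hp, hq, hpq, ⟨j, hj⟩, hq2⟩ := Transfer.exists_pPart_decomposition (p := 2) (n ^ 3)
    have hle : Subgroup.zpowers (n ^ 3) ≤ Subgroup.normalizer (A : Set G) ⊓ K :=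
      Subgroup.zpowers_le.mpr ⟨pow_mem hn 3, pow_mem hnK 3⟩
    have hpA : p ∈ A := by
      have hpp : IsPGroup 2 (Subgroup.zpowers p) :=
        IsPGroup.of_card (n := (((Nat.dvd_prime_pow Nat.prime_two).mp hj).choose))
          (by rw [Nat.card_zpowers]; exact ((Nat.dvd_prime_pow Nat.prime_two).mp hj).choose_spec.2)
      exact hsylK.2.2 _ (sup_le (Subgroup.zpowers_le.mpr (hle hp).2) hAK)
        (IsPGroup.to_sup_of_normal_right' hpp h.isPGroupA (Subgroup.zpowers_le.mpr (hle hp).1))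
        le_sup_right (Subgroup.mem_sup_left (Subgroup.mem_zpowers p))
    have hφq : h.φ ⟨q, (hle hq).1⟩ = x ^ 3 := by
      rw [← hx3, show (⟨n ^ 3, pow_mem hn 3⟩ : Subgroup.normalizer (A : Set G)) =
        ⟨p, (hle hp).1⟩ * ⟨q, (hle hq).1⟩ from Subtype.ext hpq, map_mul,
        (h.ker_iff ⟨p, _⟩).mpr (h.le_centralizer hpA), one_mul]
    have h2 : orderOf (x ^ 3) ∣ 2 :=
      orderOf_dvd_of_pow_eq_one (by rw [← pow_mul]; exact hx6)
    have hodd : orderOf (x ^ 3) ∣ orderOf q := by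
      rw [← hφq]
      exact (orderOf_map_dvd h.φ _).trans (dvd_of_eq (Subgroup.orderOf_mk q _))
    rw [show x * x * x = x ^ 3 by rw [pow_succ, pow_two]]
    exact orderOf_eq_one_iff.mp (Nat.eq_one_of_dvd_coprimes hq2 hodd h2)
  -- a point of the orbit of `z` fixed by the elements of order three
  obtain ⟨z₁, hz₁O, hz₁fix⟩ : ∃ z₁ : A, z₁ ∈ h.orb h.z ∧
      ∀ x ∈ h.stab a, x * x * x = 1 → h.act x z₁ = z₁ := by
    haveI : Fact (Nat.Prime 3) := ⟨Nat.prime_three⟩
    obtain ⟨y, hy⟩ := exists_prime_orderOf_dvd_card' (G := h.stab a) 3 (by rw [h6]; norm_num)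
    have hidx : (Subgroup.zpowers y).index = 2 := by
      have := (Subgroup.zpowers y).card_mul_index
      rw [Nat.card_zpowers, hy, h6] at this
      omega
    have hy' : (y : A5) * y * y = 1 := by
      have e := congrArg Subtype.val (pow_orderOf_eq_one y)
      rw [hy, Subgroup.coe_pow, pow_succ, pow_two] at e
      exact e
    have hy1 : (y : A5) ≠ 1 := fun e => by
      rw [show y = 1 from Subtype.ext e, orderOf_one] at hy; omega
    obtain ⟨g, hg⟩ := three_conj _ hy' hy1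
    have ht3 : t3 ∈ h.stab h.z := h.act_t3_z
    have hyfix : h.act (y : A5) (h.act g h.z) = h.act g h.z := by
      rcases hg with e | e
      · rw [← e, act_act, inv_mul_cancel_right, ← act_act, h.mem_stab.mp ht3]
      · rw [← e, act_act, inv_mul_cancel_right, ← act_act, h.mem_stab.mp (mul_mem ht3 ht3)]
    refine ⟨h.act g h.z, ⟨g, rfl⟩, fun x hx hx3 => ?_⟩
    have hx4 : (⟨x, hx⟩ : h.stab a) = ((⟨x, hx⟩ : h.stab a) ^ 2) ^ 2 := Subtype.ext (by
      push_cast
      rw [pow_two, pow_two, ← mul_assoc, hx3, one_mul])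
    have hxy : (⟨x, hx⟩ : h.stab a) ∈ Subgroup.zpowers y := by
      rw [hx4]; exact FusionTwo.sq_mem_of_index_two hidx _
    obtain ⟨i, hi⟩ := hxy
    have hx' : x ∈ Subgroup.zpowers (y : A5) :=
      ⟨i, by simpa using congrArg Subtype.val hi⟩
    exact (Subgroup.zpowers_le.mpr (h.mem_stab.mpr hyfix)) hx'
  have hz₁1 : orderOf (z₁ : G) = 2 := orderOf_two_iff.mpr ⟨h.sqG z₁.2, fun e => by
    rw [show z₁ = 1 from Subtype.ext e] at hz₁O
    exact h.not_orb_one hz₁O⟩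
  have hdec := decomp_of_no_fusion hsylK z₁.2 hz₁1 (fun g hg hgA => by
    obtain ⟨n, hn, hnK, hne⟩ := h.exists_conj_normalizer hAK hg z₁.2 hgA
    have hst := h.mem_stab_of_comm hn (Subgroup.mem_centralizer_singleton_iff.mp (hK hnK))
    rw [← hne, ← h.act_apply' hn, hz₁fix _ hst (himg n hn hnK)])
  have hgz₁ : Good A (cen (z₁ : G)) := h.good_orb hz₁O h.good_z
  have hg₁ : Good A (K ⊓ cen (z₁ : G)) :=
    hgz₁.mono (le_inf hAK (h.le_cen z₁.2)) inf_le_right
  have hcore : coreOf (K ⊓ cen (z₁ : G)) ≤ coreOf K := by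
    refine le_coreOf_of_decomp ((coreOf_le _).trans inf_le_left) (odd_coreOf _)
      (N₀ := ((K ⊓ cen (z₁ : G) : Subgroup G) : Set G))
      (fun n hn r hr => conj_mem_coreOf hn hr) (fun n hn => hn.1) fun g hg => ?_
    obtain ⟨o, ho, c, hcK, hcz, he⟩ := hdec g hg
    exact ⟨o, ho, c, ⟨hcK, hcz⟩, he⟩
  have hgK : Good A K := by
    intro g hg b hb
    obtain ⟨o, ho, c, hcK, hcz, rfl⟩ := hdec g hg
    have h1 : c * b * c⁻¹ ∈ A ⊔ coreOf K := sup_le_sup_left hcore _ (hg₁ c ⟨hcK, hcz⟩ b hb)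
    rw [show o * c * b * (o * c)⁻¹ = o * (c * b * c⁻¹) * o⁻¹ by group]
    exact mul_mem (mul_mem (Subgroup.mem_sup_right ho) h1) (Subgroup.mem_sup_right (inv_mem ho))
  have hKH : coreOf K ≤ coreOf (cen (a : G)) := coreOf_le_of_normal hK hKn
  have huN := h.hSN hu
  intro g hg b hb
  rcases hKcov g hg with hgK' | hgK'
  · exact sup_le_sup_left hKH _ (hgK g hgK' b hb)
  · have hb' : u⁻¹ * b * u ∈ A := by
      simpa using (Subgroup.mem_normalizer_iff.mp (inv_mem huN) b).mp hb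
    have h1 := sup_le_sup_left hKH _ (hgK _ hgK' _ hb')
    rwa [show g * u * (u⁻¹ * b * u) * (g * u)⁻¹ = g * b * g⁻¹ by group] at h1

include h in
theorem good_all : ∀ a ∈ A, a ≠ 1 → Good A (cen a) := by
  intro a ha ha1
  have ha1' : (⟨a, ha⟩ : A) ≠ 1 := fun e => ha1 (congrArg Subtype.val e)
  by_cases hO : (⟨a, ha⟩ : A) ∈ h.orb h.z
  · exact h.good_orb hO h.good_z
  · obtain ⟨c, hcf, hc1, hcO⟩ := h.exists_rest
    exact h.good_orb ((h.rest_facts hc1 hcO).2 _ ha1' hO) (h.good_rest hcf hc1 hcO)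

include h in
theorem balance : ∀ a ∈ A, a ≠ 1 → ∀ b ∈ A, b ≠ 1 →
    coreOf (cen a) ⊓ cen b ≤ coreOf (cen b) := by
  intro a ha _ b hb hb1 x hx
  obtain ⟨hxa, hxb⟩ := Subgroup.mem_inf.mp hx
  refine (h.good_all b hb hb1).mem_core h.isPGroupA (h.le_cen hb) (fun y hy => h.sqG hy) ?_ hxb
    (odd_orderOf (odd_coreOf _) hxa) fun y hy => ?_
  · intro n hn hnc hno
    obtain ⟨c, hc, o, ho, rfl⟩ := h.cent n hnc
    have hoc : o ∈ Subgroup.centralizer (A : Set G) := by
      simpa using mul_mem (inv_mem (h.le_centralizer hc)) hnc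
    have hco : Commute c o := Subgroup.mem_centralizer_iff.mp hoc c hc
    have hc1 : c = 1 := by
      by_contra hc1
      obtain ⟨m, hm⟩ := hno
      have h1 := pow_orderOf_eq_one (c * o)
      rw [hco.mul_pow, hm, pow_succ, pow_mul, sq, h.sqG hc, one_pow, one_mul] at h1
      refine hc1 (eq_one_of_mem_both h.isPGroupA (odd_coreOf (Subgroup.normalizer (A : Set G))) hc ?_)
      rw [eq_inv_of_mul_eq_one_left h1]
      exact inv_mem (pow_mem ho _)
    rw [hc1, one_mul]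
    have hob : o ∈ cen b := by
      have := Subgroup.mem_centralizer_iff.mp hoc b hb
      exact Subgroup.mem_centralizer_singleton_iff.mpr this.symm
    set R₀ := coreOf (Subgroup.normalizer (A : Set G)) ⊓ Subgroup.centralizer (A : Set G) with hR
    have hR₀ : R₀ ≤ cen b := fun r hr => Subgroup.mem_centralizer_singleton_iff.mpr
      (Subgroup.mem_centralizer_iff.mp hr.2 b hb).symm
    refine le_coreOf_of_decomp hR₀ ((odd_coreOf _).of_dvd_nat (Subgroup.card_dvd_of_le inf_le_left))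
      (N₀ := {n | n ∈ Subgroup.normalizer (A : Set G) ∧ n ∈ cen b}) ?_ (fun n hn => hn.2)
      (fun g hg => ?_) (Subgroup.mem_inf.mpr ⟨ho, hoc⟩)
    · intro n hn r hr
      obtain ⟨hr1, hr2⟩ := Subgroup.mem_inf.mp hr
      refine Subgroup.mem_inf.mpr ⟨conj_mem_coreOf hn.1 hr1, Subgroup.mem_centralizer_iff.mpr ?_⟩
      intro w hw
      have hw' : n⁻¹ * w * n ∈ A := by
        simpa using (Subgroup.mem_normalizer_iff.mp (inv_mem hn.1) w).mp hw
      calc w * (n * r * n⁻¹) = n * ((n⁻¹ * w * n) * r) * n⁻¹ := by group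
        _ = n * (r * (n⁻¹ * w * n)) * n⁻¹ := by rw [Subgroup.mem_centralizer_iff.mp hr2 _ hw']
        _ = n * r * n⁻¹ * w := by group
    · obtain ⟨d, hd, n, hn, hnH, e⟩ :=
        (h.good_all b hb hb1).decomp h.isPGroupA (h.le_cen hb) hg
      exact ⟨d, hd, n, ⟨hn, hnH⟩, e⟩
  · refine odd_orderOf (odd_coreOf (cen a)) ?_
    rw [show x * y * x⁻¹ * y⁻¹ = x * (y * x⁻¹ * y⁻¹) by group]
    exact mul_mem hxa (conj_mem_coreOf (h.le_cen ha hy) (inv_mem hxa))

include h in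
/-- The centralizer of an involution outside `A` lies in the covering subgroup. -/
theorem exists_cen_le {M : Subgroup G} (hM : ∀ a ∈ A, a ≠ 1 → cen a ≤ M) :
    ∃ u ∈ (h.S : Subgroup G), u * u = 1 ∧ u ∉ A ∧ cen u ≤ M := by
  obtain ⟨u, w, hu, hw, hu2, hw2, hc, hug, hwg⟩ := h.exists_pair
  have huA : u ∉ A := fun hA => five_facts.1.1 (by rw [← hug]; exact (h.img_eq_one hu).mpr hA)
  refine ⟨u, hu, hu2, huA, ?_⟩
  set P := (h.S : Subgroup G) ⊓ cen u with hP
  have hfixP : ∀ a : A, a ∈ h.fixA s1 → (a : G) ∈ P := fun a ha => Subgroup.mem_inf.mpr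
    ⟨h.hAS a.2, Subgroup.mem_centralizer_singleton_iff.mpr
      ((h.mem_fix_iff hu a).mp (hug ▸ ha)).symm⟩
  have hub : ∀ {v : G} (hv : v ∈ (h.S : Subgroup G)), v ∉ A →
      Nat.card ((h.S : Subgroup G) ⊓ cen v : Subgroup G) ≤ 16 := by
    intro v hv hvA
    set B := (h.S : Subgroup G) ⊓ cen v
    set f := h.phiOn ((inf_le_left : B ≤ _).trans h.hSN)
    have hk : ∀ x : f.ker, ((x : B) : G) ∈ A := fun x => (h.img_eq_one (x : B).2.1).mp x.2
    have h1 : Nat.card f.ker ≤ 4 := by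
      rw [← h.card_fix (h.img_mem hv) (h.img_ne hv hvA)]
      refine Nat.card_le_card_of_injective (fun x => (⟨⟨_, hk x⟩, (h.mem_fix_iff hv _).mpr
        (Subgroup.mem_centralizer_singleton_iff.mp (x : B).2.2).symm⟩ : h.fixA (h.img hv)))
        fun x y e => Subtype.ext (Subtype.ext (congrArg (fun q : h.fixA (h.img hv) => ((q : A) : G)) e))
    have h2 : Nat.card f.range ≤ 4 := by
      rw [← card_fourV]
      exact Subgroup.card_le_of_le (by rintro _ ⟨x, rfl⟩; exact h.img_mem x.2.1)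
    calc Nat.card B = Nat.card f.range * Nat.card f.ker := by
          rw [← Subgroup.index_ker, Subgroup.index_mul_card]
      _ ≤ 4 * 4 := Nat.mul_le_mul h2 h1
  have hlb : 16 ≤ Nat.card P := by
    set f := h.phiOn ((inf_le_left : P ≤ _).trans h.hSN)
    have h1 : 4 ≤ Nat.card f.ker := by
      rw [← h.card_fix s1_mem five_facts.1.1]
      refine Nat.card_le_card_of_injective (fun a => (⟨⟨(a : A), hfixP _ a.2⟩,
        (h.img_eq_one (h.hAS (a : A).2)).mpr (a : A).2⟩ : f.ker)) fun a b e => ?_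
      exact Subtype.ext (Subtype.ext (congrArg (fun q : f.ker => ((q : P) : G)) e))
    have h2 : 4 ≤ Nat.card f.range := by
      rw [← card_fourV]
      refine Subgroup.card_le_of_le fun g hg => ?_
      have hu1 : s1 ∈ f.range := ⟨⟨u, hu, Subgroup.mem_centralizer_singleton_iff.mpr rfl⟩, hug⟩
      have hw1 : s2 ∈ f.range := ⟨⟨w, hw, Subgroup.mem_centralizer_singleton_iff.mpr hc⟩, hwg⟩
      rw [mem_fourV] at hg
      rcases hg with rfl | rfl | rfl | rfl
      exacts [one_mem _, hu1, hw1, five_facts.2.2.2.1 ▸ mul_mem hu1 hw1]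
    calc 16 = 4 * 4 := rfl
      _ ≤ Nat.card f.range * Nat.card f.ker := Nat.mul_le_mul h2 h1
      _ = Nat.card P := by rw [← Subgroup.index_ker, Subgroup.index_mul_card]
  have hsyl : IsSyl (cen u) P := by
    refine ⟨inf_le_right, h.S.2.to_le inf_le_left, fun Q hQ hQ2 hPQ => ?_⟩
    obtain ⟨x, -, hx⟩ :=
      (isSyl_of_sylow h.S (le_top : (h.S : Subgroup G) ≤ ⊤)).exists_conj le_top hQ2
    have huQ : u ∈ Q := hPQ ⟨hu, Subgroup.mem_centralizer_singleton_iff.mpr rfl⟩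
    have hA' : x * u * x⁻¹ ∉ A := fun hA => h.not_isConj hu huA hA (isConj_iff.mpr ⟨x, rfl⟩)
    have hle : Q.map (MulAut.conj x).toMonoidHom ≤ (h.S : Subgroup G) ⊓ cen (x * u * x⁻¹) := by
      rintro _ ⟨q, hq, rfl⟩
      refine Subgroup.mem_inf.mpr ⟨hx q hq, Subgroup.mem_centralizer_singleton_iff.mpr ?_⟩
      show x * q * x⁻¹ * (x * u * x⁻¹) = x * u * x⁻¹ * (x * q * x⁻¹)
      rw [show x * q * x⁻¹ * (x * u * x⁻¹) = x * (q * u) * x⁻¹ by group,
        Subgroup.mem_centralizer_singleton_iff.mp (hQ hq)]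
      group
    refine (Subgroup.eq_of_le_of_card_ge hPQ (le_trans ?_ hlb)).ge
    calc Nat.card Q = Nat.card (Q.map (MulAut.conj x).toMonoidHom) :=
          (Subgroup.card_map_of_injective (MulAut.conj x).injective).symm
      _ ≤ _ := Subgroup.card_le_of_le hle
      _ ≤ 16 := hub (hx u huQ) hA'
  have hzP : (h.z : G) ∈ P := hfixP _ (h.z_mem_fix s1_mem)
  have hz2 : orderOf (h.z : G) = 2 :=
    orderOf_two_iff.mpr ⟨h.sqG h.z.2, fun e => h.z_ne (Subtype.ext e)⟩
  have hdec := decomp_of_no_fusion hsyl hzP hz2 (fun g _ hgP => by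
    have hA := h.mem_A_of_conj h.z.2 hgP.1
    have hfix : (⟨_, hA⟩ : A) ∈ h.fixA s1 := hug ▸ (h.mem_fix_iff hu _).mpr
      (Subgroup.mem_centralizer_singleton_iff.mp hgP.2).symm
    exact congrArg Subtype.val
      (h.eq_z_of_fix s1_mem five_facts.1.1 hfix (h.mem_orb_of_conj (b := ⟨_, hA⟩) rfl)))
  have hzM : cen (h.z : G) ≤ M := hM _ h.z.2 fun e => h.z_ne (Subtype.ext e)
  obtain ⟨c, hcf, hc1, hcO⟩ := h.exists_rest
  have hcz : c ≠ h.z := fun e => hcO (e ▸ ⟨1, h.act_one _⟩)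
  intro g hg
  obtain ⟨o, ho, d, -, hdz, rfl⟩ := hdec g hg
  refine mul_mem ?_ (hzM hdz)
  obtain ⟨x1, -, hx1, x2, -, hx2, x3, -, hx3, rfl⟩ := ExtremelyClosed.exists_three_factor
    (K := coreOf (cen u)) (a := (h.z : G)) (b := (c : G)) (odd_coreOf _)
    (h.commG h.z.2 c.2) (h.sqG h.z.2) (h.sqG c.2)
    (fun x hx => conj_mem_coreOf (hfixP _ (h.z_mem_fix s1_mem)).2 hx)
    (fun x hx => conj_mem_coreOf (hfixP _ hcf).2 hx) ho
  refine mul_mem (mul_mem (hzM (Subgroup.mem_centralizer_singleton_iff.mpr hx1.symm.eq))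
    (hM _ c.2 (fun e => hc1 (Subtype.ext e)) (Subgroup.mem_centralizer_singleton_iff.mpr hx2.symm.eq)))
    (hM _ (mul_mem h.z.2 c.2) (fun e => hcz ?_) (Subgroup.mem_centralizer_singleton_iff.mpr hx3.symm.eq))
  have e' : h.z * c = 1 := Subtype.ext e
  rw [← h.invA c]
  exact inv_eq_of_mul_eq_one_left e'

end Setting

end CfsgLib.EightType55
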