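import Cfsg.Agent.EightType55.Fusion

/-!
A complement to `A` in the Sylow subgroup, and the hyperplane `W` inside `G`.
-/

set_option autoImplicit false
set_option linter.style.haveILetI false
set_option linter.unusedSectionVars false

universe u

namespace CfsgLib.EightType55

open Cfsg
open CfsgLib.StronglyEmbedded (orderOf_two_iff)

variable {G : Type u} [Group G] [Finite G] {A : Subgroup G}

local instance : Fact (Nat.Prime 2) := ⟨Nat.prime_two⟩

/-- Transfer to a group of order two, relative to a subgroup. -/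
theorem exists_index_two' {L P Q : Subgroup G} (hP : IsSyl L P) {v : G} (hv : v ∈ P)
    (hv2 : v * v = 1) (hvQ : v ∉ Q) (hQ : ∀ a ∈ P, ∀ b ∈ P, (a * b ∈ Q ↔ (a ∈ Q ↔ b ∈ Q)))
    (hvf : ∀ g ∈ L, g * v * g⁻¹ ∈ P → g * v * g⁻¹ ∉ Q) :
    ∃ K : Subgroup G, K ≤ L ∧ (∀ l ∈ L, ∀ k ∈ K, l * k * l⁻¹ ∈ K) ∧ v ∉ K ∧
      (∀ g ∈ L, g ∈ K ∨ g * v ∈ K) ∧
      ∀ x ∈ P, x * x = 1 →
        (∀ g ∈ L, g * x * g⁻¹ ∈ P → (g * x * g⁻¹ ∈ Q ↔ x ∈ Q)) → (x ∈ K ↔ x ∈ Q) := by
  obtain ⟨S, hS⟩ := hP.exists_sylow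
  have hmem : ∀ x : L, x ∈ (S : Subgroup L) ↔ (x : G) ∈ P := fun x => by rw [hS]; rfl
  have hvL : v ∈ L := hP.1 hv
  obtain ⟨K, hKn, hvK, hcov, hcrit⟩ := exists_index_two S (Q.subgroupOf L) (v := ⟨v, hvL⟩)
    ((hmem _).mpr hv) (Subtype.ext hv2) hvQ
    (fun a ha b hb => hQ _ ((hmem a).mp ha) _ ((hmem b).mp hb))
    (fun g hg => hvf g g.2 ((hmem _).mp hg))
  have hval : ∀ (x : G) (hx : x ∈ L), x ∈ K.map L.subtype ↔ (⟨x, hx⟩ : L) ∈ K := fun x hx =>
    ⟨fun ⟨y, hy, e⟩ => by obtain rfl : y = ⟨x, hx⟩ := Subtype.ext e; exact hy,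
      fun e => ⟨_, e, rfl⟩⟩
  refine ⟨K.map L.subtype, Subgroup.map_subtype_le K, ?_, fun h => hvK ((hval v hvL).mp h), ?_, ?_⟩
  · rintro l hl _ ⟨k, hk, rfl⟩
    exact ⟨⟨l, hl⟩ * k * ⟨l, hl⟩⁻¹, hKn.conj_mem k hk _, rfl⟩
  · intro g hg
    rcases hcov ⟨g, hg⟩ with e | e
    · exact Or.inl ((hval g hg).mpr e)
    · exact Or.inr ((hval _ (mul_mem hg hvL)).mpr e)
  · intro x hx hx2 hf
    rw [hval x (hP.1 hx)]
    exact hcrit ⟨x, hP.1 hx⟩ ((hmem _).mpr hx) (Subtype.ext hx2)
      fun g hg => hf g g.2 ((hmem _).mp hg)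

/-- The subgroup generated by two commuting involutions. -/
def pairSub (u v : G) (hu : u * u = 1) (hv : v * v = 1) (hc : v * u = u * v) : Subgroup G where
  carrier := {x | x = 1 ∨ x = u ∨ x = v ∨ x = u * v}
  one_mem' := Or.inl rfl
  mul_mem' := by
    have hu' : ∀ x, u * (u * x) = x := fun x => by rw [← mul_assoc, hu, one_mul]
    have hv' : ∀ x, v * (v * x) = x := fun x => by rw [← mul_assoc, hv, one_mul]
    have hc' : ∀ x, v * (u * x) = u * (v * x) := fun x => by rw [← mul_assoc, hc, mul_assoc]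
    rintro a b (rfl | rfl | rfl | rfl) (rfl | rfl | rfl | rfl) <;>
      simp [hu, hv, hc, hu', hv', hc', mul_assoc]
  inv_mem' := by
    rintro a (rfl | rfl | rfl | rfl)
    · simp
    · exact Or.inr (Or.inl (inv_eq_of_mul_eq_one_right hu))
    · exact Or.inr (Or.inr (Or.inl (inv_eq_of_mul_eq_one_right hv)))
    · refine Or.inr (Or.inr (Or.inr ?_))
      rw [mul_inv_rev, inv_eq_of_mul_eq_one_right hu, inv_eq_of_mul_eq_one_right hv, hc]

theorem four_stable {g : A5} (hg : g ∈ fourV) : ∀ i : ℕ, (t3 ^ i)⁻¹ * g * t3 ^ i ∈ fourV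
  | 0 => by simpa using hg
  | n + 1 => by
    rw [show (t3 ^ (n + 1))⁻¹ * g * t3 ^ (n + 1) = t3⁻¹ * ((t3 ^ n)⁻¹ * g * t3 ^ n) * t3 by
      rw [pow_succ, mul_inv_rev]; group]
    exact (four_facts _ (four_stable hg n)).2.2.2.2.1

theorem mul_conj_eq (x g : A5) : x * (x⁻¹ * g * x) = g * x := by group

namespace Setting

variable (h : Setting A)

theorem img_congr {s t : G} (hs : s ∈ (h.S : Subgroup G)) (ht : t ∈ (h.S : Subgroup G))
    (e : s = t) : h.img hs = h.img ht := by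
  subst e; rfl

theorem img_of_mem_A {a : G} (ha : a ∈ A) : h.img (h.hAS ha) = 1 := (h.img_eq_one _).mpr ha

include h in
/-- Two commuting involutions with images `s1`, `s2`. -/
theorem exists_pair : ∃ u v : G, ∃ hu : u ∈ (h.S : Subgroup G), ∃ hv : v ∈ (h.S : Subgroup G),
    u * u = 1 ∧ v * v = 1 ∧ v * u = u * v ∧ h.img hu = s1 ∧ h.img hv = s2 := by
  obtain ⟨u, hu, hu2, hug⟩ := h.exists_inv s1_mem five_facts.1.1
  obtain ⟨v, hv, hv2, hvg⟩ := h.exists_inv s2_mem five_facts.1.2.1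
  have huv : u * v * (u * v) ∈ A := by
    rw [← h.img_eq_one (mul_mem (mul_mem hu hv) (mul_mem hu hv)),
      h.img_mul (mul_mem hu hv) (mul_mem hu hv), four_mul_self (h.img_mem _)]
  have hci : (u * v * (u * v))⁻¹ = u * v * (u * v) := inv_eq_of_mul_eq_one_right (h.sqG huv)
  have hui := inv_eq_of_mul_eq_one_right hu2
  have hvi := inv_eq_of_mul_eq_one_right hv2
  have hc : (⟨_, huv⟩ : A) = 1 ∨ (⟨_, huv⟩ : A) = h.z := by
    refine h.act_eq_of_two s1_mem s2_mem five_facts.1.1 five_facts.1.2.1 five_facts.1.2.2.2.1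
      (hug ▸ (h.mem_fix_iff hu _).mpr ?_) (hvg ▸ (h.mem_fix_iff hv _).mpr ?_)
    · show u * (u * v * (u * v)) = u * v * (u * v) * u
      conv_rhs => rw [← hci, mul_inv_rev, mul_inv_rev, hui, hvi]
      simp only [mul_assoc, hu2, mul_one]
      rw [← mul_assoc u u, hu2, one_mul]
    · show v * (u * v * (u * v)) = u * v * (u * v) * v
      conv_lhs => rw [← hci, mul_inv_rev, mul_inv_rev, hui, hvi]
      simp only [mul_assoc, hv2, mul_one]
      rw [← mul_assoc v v, hv2, one_mul]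
  rcases hc with hc | hc
  · refine ⟨u, v, hu, hv, hu2, hv2, ?_, hug, hvg⟩
    have h1 : u * v * (u * v) = 1 := congrArg Subtype.val hc
    rw [← inv_eq_of_mul_eq_one_right h1, mul_inv_rev, hui, hvi]
  · -- adjust the first involution
    obtain ⟨a, haf, hau⟩ : ∃ a ∈ h.fixA s1, h.psi s2 a ≠ 1 := by
      by_contra hno
      push Not at hno
      have := Nat.card_mono (Set.toFinite ({1, h.z} : Set A))
        (s := (h.fixA s1 : Set A)) fun a ha => h.act_eq_of_two s1_mem s2_mem five_facts.1.1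
          five_facts.1.2.1 five_facts.1.2.2.2.1 ha (h.psi_eq_one.mp (hno a ha))
      rw [show Nat.card (h.fixA s1 : Set A) = 4 from h.card_fix s1_mem five_facts.1.1,
        Nat.card_coe_set_eq ({1, h.z} : Set A)] at this
      have := this.trans ((Set.ncard_insert_le _ _).trans (by rw [Set.ncard_singleton]))
      omega
    have haz : h.psi s2 a = h.z := by
      refine (h.act_eq_of_two s1_mem s2_mem five_facts.1.1 five_facts.1.2.1 five_facts.1.2.2.2.1
        ?_ (h.psi_mem_fix (four_mul_self s2_mem) a)).resolve_left hau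
      rw [mem_fixA, h.psi_comm (four_facts s1 s1_mem).2.2.1.symm, h.mem_fixA.mp haf]
    have hau' : u * a = a * u := (h.mem_fix_iff hu a).mp (hug ▸ haf)
    have hva : v * a = h.z * a * v := by
      have h1 := congrArg (fun q : A => (q : G)) haz
      simp only [← hvg, h.psi_img hv, hvi] at h1
      calc v * a = v * a * v * (a * a) * v := by
            rw [h.sqG a.2, mul_one, mul_assoc _ v v, hv2, mul_one]
        _ = (v * a * v * a) * a * v := by simp [mul_assoc]
        _ = h.z * a * v := by rw [h1]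
    have hz : u * v * (u * v) = (h.z : G) := congrArg Subtype.val hc
    have hua : (u * a) * (u * a) = 1 := by
      calc (u * a) * (u * a) = (u * (a * u)) * a := by simp [mul_assoc]
        _ = (u * u) * (a * a) := by rw [← hau']; simp [mul_assoc]
        _ = 1 := by rw [hu2, h.sqG a.2, one_mul]
    have hprod : (u * a * v) * (u * a * v) = 1 := by
      calc (u * a * v) * (u * a * v) = a * u * v * (u * a) * v := by rw [hau']; simp [mul_assoc]
        _ = a * u * (v * a) * u * v := by rw [hau']; simp [mul_assoc]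
        _ = a * u * (h.z * a * v) * u * v := by rw [hva]
        _ = a * (u * h.z) * a * (v * u * v) := by simp [mul_assoc]
        _ = a * (h.z * u) * a * (v * u * v) := by rw [h.z_comm hu]
        _ = a * h.z * (u * a) * (v * u * v) := by simp [mul_assoc]
        _ = a * h.z * a * (u * v * (u * v)) := by rw [hau']; simp [mul_assoc]
        _ = a * (h.z * a) * h.z := by rw [hz]; simp [mul_assoc]
        _ = (a * a) * (h.z * h.z) := by rw [h.commG h.z.2 a.2]; simp [mul_assoc]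
        _ = 1 := by rw [h.sqG a.2, h.sqG h.z.2, one_mul]
    refine ⟨u * a, v, mul_mem hu (h.hAS a.2), hv, hua, hv2, ?_, ?_, hvg⟩
    · rw [← inv_eq_of_mul_eq_one_right hprod, mul_inv_rev, inv_eq_of_mul_eq_one_right hua, hvi]
    · rw [h.img_mul hu (h.hAS a.2), h.img_of_mem_A a.2, mul_one, hug]

/-- The hyperplane inside `G`. -/
noncomputable def WG : Subgroup G := h.W.map A.subtype

theorem WG_le : h.WG ≤ A := Subgroup.map_subtype_le _

theorem mem_WG {x : G} (hx : x ∈ A) : x ∈ h.WG ↔ (⟨x, hx⟩ : A) ∈ h.W :=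
  ⟨fun ⟨y, hy, e⟩ => by obtain rfl : y = ⟨x, hx⟩ := Subtype.ext e; exact hy,
    fun e => ⟨_, e, rfl⟩⟩

theorem index_W : h.W.index = 2 := by
  have := h.W.card_mul_index
  rw [h.card_W, h.card16] at this
  omega

theorem z_mem_WG : (h.z : G) ∈ h.WG :=
  (h.mem_WG h.z.2).mpr (h.fix_le_W s1_mem five_facts.1.1 (h.z_mem_fix s1_mem))

theorem psi_mem_WG {s : G} (hs : s ∈ (h.S : Subgroup G)) (hsA : s ∉ A) (a : A) :
    (h.psi (h.img hs) a : G) ∈ h.WG :=
  ⟨_, h.fix_le_W (h.img_mem hs) (h.img_ne hs hsA) (h.psi_mem_fix (four_mul_self (h.img_mem hs)) a),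
    rfl⟩

theorem psi_W {g : A5} (hg : g ∈ fourV) (hg1 : g ≠ 1) {a : A} (ha : a ∈ h.W) :
    h.psi g a ∈ Subgroup.zpowers h.z := by
  rw [h.W_eq_comap hg hg1] at ha
  exact ha

theorem four_conj_mem {x g : A5} (hx : x ∈ h.stab h.z) (hg : g ∈ fourV) :
    x⁻¹ * g * x ∈ fourV := by
  obtain ⟨i, v, hv, rfl⟩ := h.eq_of_stab_z hx
  rw [show (t3 ^ (i : ℕ) * v)⁻¹ * g * (t3 ^ (i : ℕ) * v) =
    v⁻¹ * ((t3 ^ (i : ℕ))⁻¹ * g * t3 ^ (i : ℕ)) * v by group]
  exact mul_mem (mul_mem (inv_mem hv) (four_stable hg i)) hv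

theorem act_W {x : A5} (hx : x ∈ h.stab h.z) {a : A} (ha : a ∈ h.W) : h.act x a ∈ h.W := by
  set k := x⁻¹ * s1 * x with hk
  have hk1 : k ≠ 1 := fun e => five_facts.1.1 (by
    calc s1 = x * k * x⁻¹ := by rw [hk]; group
      _ = 1 := by rw [e, mul_one, mul_inv_cancel])
  have e : h.psi s1 (h.act x a) = h.act x (h.psi k a) := by
    rw [psi_apply, psi_apply, map_mul, act_act, act_act, hk, mul_conj_eq]
  have hxz : h.act x h.z = h.z := hx
  rw [mem_W, e]
  rcases h.mem_zpowers_z.mp (h.psi_W (h.four_conj_mem hx s1_mem) hk1 ha) with e' | e' <;> rw [e']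
  · exact Or.inl (map_one _)
  · exact Or.inr hxz

theorem mem_stab_z_of_comm {n : G} (hn : n ∈ Subgroup.normalizer (A : Set G))
    (hc : n * h.z = h.z * n) : h.φ ⟨n, hn⟩ ∈ h.stab h.z :=
  Subtype.ext (by rw [h.act_apply' hn, hc, mul_inv_cancel_right])

theorem conj_WG {n w : G} (hn : n ∈ Subgroup.normalizer (A : Set G))
    (hc : n * h.z = h.z * n) (hw : w ∈ h.WG) : n * w * n⁻¹ ∈ h.WG := by
  obtain ⟨a, ha, rfl⟩ := hw
  exact ⟨_, h.act_W (h.mem_stab_z_of_comm hn hc) ha, h.act_apply' hn a⟩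

/-- An element of `A5` fixing the hyperplane pointwise is trivial. -/
theorem eq_one_of_fix_W {x : A5} (hx : ∀ a ∈ h.W, h.act x a = a) : x = 1 := by
  have hx2 : x * x = 1 := h.act_injective (MulEquiv.ext fun a => by
    rw [map_one]
    show h.act (x * x) a = a
    rw [← act_act]
    by_cases ha : a ∈ h.W
    · rw [hx a ha, hx a ha]
    · have hb : h.act x a ∉ h.W := fun hb => ha (by
        have := hx _ hb
        rw [(h.act x).injective.eq_iff] at this
        rwa [this] at hb)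
      have hw : a * h.act x a ∈ h.W :=
        (Subgroup.mul_mem_iff_of_index_two h.index_W).mpr (iff_of_false ha hb)
      have := hx _ hw
      rw [map_mul, h.commA a, mul_left_cancel_iff] at this
      exact this)
  by_contra hx1
  obtain ⟨g, hg⟩ := involution_conj x hx2 hx1
  have : Nat.card h.W ≤ Nat.card (h.fixA s1) := by
    refine Nat.card_le_card_of_injective (fun a => (⟨h.act g a, hg ▸ h.act_map_fix (g := x)
      (hx a a.2)⟩ : h.fixA s1)) fun a b e => ?_
    exact Subtype.ext ((h.act g).injective (congrArg Subtype.val e))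
  rw [h.card_W, h.card_fix s1_mem five_facts.1.1] at this
  omega

include h in
theorem not_mem_WG_of_comm {s : G} (hs : s ∈ (h.S : Subgroup G))
    (hc : ∀ w ∈ h.WG, s * w = w * s) : s ∈ A := by
  by_contra hA
  have h1 : h.W ≤ h.fixA (h.img hs) := fun a ha =>
    (h.mem_fix_iff hs a).mpr (hc _ ⟨a, ha, rfl⟩)
  have := Subgroup.card_le_of_le h1
  rw [h.card_W, h.card_fix (h.img_mem hs) (h.img_ne hs hA)] at this
  omega

include h in
/-- The centralizer of the hyperplane is `A` modulo the core. -/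
theorem centralizer_WG : ∀ c ∈ Subgroup.centralizer (h.WG : Set G),
    ∃ r ∈ coreOf (Subgroup.centralizer (h.WG : Set G)), ∃ a ∈ A, c = r * a := by
  set L := Subgroup.centralizer (h.WG : Set G)
  have hAL : A ≤ L := fun a ha =>
    Subgroup.mem_centralizer_iff.mpr fun w hw => h.commG (h.WG_le hw) ha
  refine good_of_complement' ⟨hAL, h.isPGroupA, fun Q hQ hQ2 hAQ q hq => ?_⟩ fun n hn hnN => ?_
  · obtain ⟨x, -, hx⟩ := (isSyl_of_sylow h.S (le_top : (h.S : Subgroup G) ≤ ⊤)).exists_conj le_top hQ2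
    have hxN : x ∈ Subgroup.normalizer (A : Set G) :=
      h.mem_normalizer_of_le h.S.2 h.hAS fun a ha => hx a (hAQ ha)
    by_contra hqA
    have hqA' : x * q * x⁻¹ ∉ A := fun hc => hqA ((Subgroup.mem_normalizer_iff.mp hxN q).mpr hc)
    have hfix : ∀ w : h.W, h.act (h.φ ⟨x, hxN⟩) w ∈ h.fixA (h.img (hx q hq)) := fun w => by
      have hqw : ((w : A) : G) * q = q * ((w : A) : G) :=
        Subgroup.mem_centralizer_iff.mp (hQ hq) _ ⟨w, w.2, rfl⟩
      rw [h.mem_fix_iff, h.act_apply' hxN]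
      rw [show x * q * x⁻¹ * (x * (w : A) * x⁻¹) = x * (q * (w : A)) * x⁻¹ by group, ← hqw]
      group
    have := Nat.card_le_card_of_injective
      (fun w : h.W => (⟨_, hfix w⟩ : h.fixA (h.img (hx q hq))))
      fun a b e => Subtype.ext ((h.act _).injective (congrArg Subtype.val e))
    rw [h.card_W, h.card_fix (h.img_mem _) (h.img_ne _ hqA')] at this
    omega
  · refine (h.ker_iff ⟨n, hnN⟩).mp (h.eq_one_of_fix_W fun a ha => Subtype.ext ?_)
    rw [h.act_apply' hnN, ← Subgroup.mem_centralizer_iff.mp hn (a : G) ⟨a, ha, rfl⟩, mul_inv_cancel_right]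

end Setting

end CfsgLib.EightType55
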