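import Cfsg.Agent.EightType55.Basic
import Cfsg.Agent.EightType55.Small
import Cfsg.Agent.Eq.Def_CaseTheorems

/-!
The module of the four-dimensional elementary abelian subgroup with automiser of type `A5`.
-/

set_option autoImplicit false
set_option linter.style.haveILetI false
set_option linter.unusedSectionVars false

universe u

namespace CfsgLib.EightType55

open Cfsg
open CfsgLib.StronglyEmbedded (orderOf_two_iff)

variable {G : Type u} [Group G] [Finite G] {A : Subgroup G}

local instance : Fact (Nat.Prime 2) := ⟨Nat.prime_two⟩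

/-- The data extracted from the hypotheses. -/
structure Setting (A : Subgroup G) where
  elem : IsElementaryAbelian 2 A
  card16 : Nat.card A = 16
  S : Sylow 2 G
  hAS : A ≤ (S : Subgroup G)
  hSN : (S : Subgroup G) ≤ Subgroup.normalizer (A : Set G)
  card_S : Nat.card (S : Subgroup G) = 64
  center_S : Nat.card (Subgroup.center (S : Subgroup G)) ≤ 2
  φ : ↥(Subgroup.normalizer (A : Set G)) →* A5
  surj : Function.Surjective φ
  ker_iff : ∀ n : ↥(Subgroup.normalizer (A : Set G)),
    φ n = 1 ↔ (n : G) ∈ Subgroup.centralizer (A : Set G)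
  imgS : ∀ g : A5, g ∈ fourV ↔
    ∃ s : ↥(Subgroup.normalizer (A : Set G)), (s : G) ∈ (S : Subgroup G) ∧ φ s = g
  cent : ∀ c ∈ Subgroup.centralizer (A : Set G),
    ∃ a ∈ A, ∃ o ∈ coreOf (Subgroup.normalizer (A : Set G)), c = a * o
  classes : Nat.card {c : ConjClasses G // ∃ x ∈ c.carrier, orderOf x = 2} = 3

namespace Setting

variable (h : Setting A)

theorem normalizerHom_ker : h.φ.ker ≤ (Subgroup.normalizerMonoidHom A).ker := by
  intro n hn
  rw [Subgroup.normalizerMonoidHom_ker]
  exact (h.ker_iff n).mp hn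

/-- The action of `A5` on `A`. -/
noncomputable def act : A5 →* MulAut A :=
  h.φ.liftOfRightInverse (Function.surjInv h.surj) (Function.rightInverse_surjInv h.surj)
    ⟨Subgroup.normalizerMonoidHom A, h.normalizerHom_ker⟩

theorem act_apply (n : ↥(Subgroup.normalizer (A : Set G))) (a : A) :
    (h.act (h.φ n) a : G) = n * a * (n : G)⁻¹ := by
  rw [act, MonoidHom.liftOfRightInverse_comp_apply]
  rfl

theorem act_apply' {n : G} (hn : n ∈ Subgroup.normalizer (A : Set G)) (a : A) :
    (h.act (h.φ ⟨n, hn⟩) a : G) = n * a * n⁻¹ := h.act_apply ⟨n, hn⟩ a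

theorem exists_lift (g : A5) :
    ∃ n : G, ∃ hn : n ∈ Subgroup.normalizer (A : Set G), h.φ ⟨n, hn⟩ = g := by
  obtain ⟨n, rfl⟩ := h.surj g
  exact ⟨n, n.2, rfl⟩

include h in
theorem commA (a b : A) : a * b = b * a := h.elem.1.1.comm a b

include h in
theorem sqA (a : A) : a * a = 1 := Subtype.ext (by
  rw [Subgroup.coe_mul, ← sq]; exact h.elem.2 a a.2)

include h in
theorem invA (a : A) : a⁻¹ = a := inv_eq_of_mul_eq_one_right (h.sqA a)

include h in
theorem sqG {a : G} (ha : a ∈ A) : a * a = 1 := by rw [← sq]; exact h.elem.2 a ha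

include h in
theorem isPGroupA : IsPGroup 2 A :=
  IsPGroup.of_card (n := 4) (by rw [h.card16]; norm_num)

include h in
theorem commG {a b : G} (ha : a ∈ A) (hb : b ∈ A) : a * b = b * a :=
  congrArg Subtype.val (h.commA ⟨a, ha⟩ ⟨b, hb⟩)

include h in
theorem le_centralizer : A ≤ Subgroup.centralizer (A : Set G) := fun a ha =>
  Subgroup.mem_centralizer_iff.mpr fun b hb => h.commG hb ha

include h in
theorem mem_A_of_cent {s : G} {P : Subgroup G} (hP : IsPGroup 2 P) (hAP : A ≤ P) (hs : s ∈ P)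
    (hc : s ∈ Subgroup.centralizer (A : Set G)) : s ∈ A := by
  obtain ⟨a, ha, o, ho, rfl⟩ := h.cent s hc
  have hoP : o ∈ P := by simpa using mul_mem (inv_mem (hAP ha)) hs
  rwa [eq_one_of_mem_both hP (odd_coreOf _) hoP ho, mul_one]

theorem act_injective : Function.Injective h.act := by
  rw [injective_iff_map_eq_one]
  intro g hg
  obtain ⟨n, hn, rfl⟩ := h.exists_lift g
  refine (h.ker_iff _).mpr (Subgroup.mem_centralizer_iff.mpr fun a ha => ?_)
  have h1 := h.act_apply' hn ⟨a, ha⟩
  rw [hg] at h1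
  exact (mul_inv_eq_iff_eq_mul.mp h1.symm).symm

theorem phi_mem {s : G} (hs : s ∈ (h.S : Subgroup G)) : h.φ ⟨s, h.hSN hs⟩ ∈ fourV :=
  (h.imgS _).mpr ⟨_, hs, rfl⟩

theorem phi_eq_one_iff {s : G} (hs : s ∈ (h.S : Subgroup G)) :
    h.φ ⟨s, h.hSN hs⟩ = 1 ↔ s ∈ A := by
  rw [h.ker_iff]
  exact ⟨h.mem_A_of_cent h.S.2 h.hAS hs, fun ha => h.le_centralizer ha⟩

/-! ### Fixed points and commutator maps -/

/-- The fixed points of `g`. -/
noncomputable def fixA (g : A5) : Subgroup A :=
  MonoidHom.eqLocus (h.act g).toMonoidHom (MonoidHom.id A)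

theorem mem_fixA {g : A5} {a : A} : a ∈ h.fixA g ↔ h.act g a = a := Iff.rfl

/-- The map `a ↦ a ^ g * a`. -/
noncomputable def psi (g : A5) : A →* A where
  toFun a := h.act g a * a
  map_one' := by simp
  map_mul' a b := by
    rw [map_mul, mul_assoc, ← mul_assoc (h.act g b), h.commA (h.act g b) a, mul_assoc a,
      ← mul_assoc]

theorem psi_apply (g : A5) (a : A) : h.psi g a = h.act g a * a := rfl

theorem psi_eq_one {g : A5} {a : A} : h.psi g a = 1 ↔ a ∈ h.fixA g := by
  rw [psi_apply, mem_fixA, mul_eq_one_iff_eq_inv, h.invA]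

theorem ker_psi (g : A5) : (h.psi g).ker = h.fixA g := by
  ext a; exact h.psi_eq_one

theorem act_act {g k : A5} (a : A) : h.act g (h.act k a) = h.act (g * k) a := by
  rw [map_mul]; rfl

theorem act_one (a : A) : h.act 1 a = a := by rw [map_one]; rfl

theorem psi_mem_fix {g : A5} (hg : g * g = 1) (a : A) : h.psi g a ∈ h.fixA g := by
  rw [mem_fixA, psi_apply, map_mul, act_act, hg, act_one, h.commA]

theorem psi_comm {g k : A5} (hgk : g * k = k * g) (a : A) :
    h.act k (h.psi g a) = h.psi g (h.act k a) := by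
  rw [psi_apply, psi_apply, map_mul, act_act, act_act, hgk]

theorem card_range_mul_fix (g : A5) : Nat.card (h.psi g).range * Nat.card (h.fixA g) = 16 := by
  rw [← h.ker_psi, ← Subgroup.index_ker, Subgroup.index_mul_card, h.card16]

/-! ### The central involution -/

theorem exists_z : ∃ z : A, z ≠ 1 ∧ ∀ s ∈ (h.S : Subgroup G), s * z = z * s := by
  haveI : Nontrivial (h.S : Subgroup G) := (Subgroup.nontrivial_iff_ne_bot _).mpr fun hb => by
    have := h.card_S; rw [hb, Subgroup.card_bot] at this; omega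
  haveI := h.S.2.center_nontrivial
  obtain ⟨z, hz1⟩ := exists_ne (1 : Subgroup.center (h.S : Subgroup G))
  have hz : ∀ s ∈ (h.S : Subgroup G), s * ((z : (h.S : Subgroup G)) : G) = (z : (h.S : Subgroup G)) * s :=
    fun s hs => congrArg Subtype.val (Subgroup.mem_center_iff.mp z.2 ⟨s, hs⟩)
  have hzA := h.mem_A_of_cent h.S.2 h.hAS (z : (h.S : Subgroup G)).2
    (Subgroup.mem_centralizer_iff.mpr fun a ha => hz a (h.hAS ha))
  exact ⟨⟨_, hzA⟩, fun e => hz1 (Subtype.ext (Subtype.ext (congrArg (fun q : A => (q : G)) e))), hz⟩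

/-- The central involution of the Sylow subgroup. -/
noncomputable def z : A := h.exists_z.choose

theorem z_ne : h.z ≠ 1 := h.exists_z.choose_spec.1

theorem z_comm {s : G} (hs : s ∈ (h.S : Subgroup G)) : s * h.z = h.z * s :=
  h.exists_z.choose_spec.2 s hs

theorem act_four_z {g : A5} (hg : g ∈ fourV) : h.act g h.z = h.z := by
  obtain ⟨s, hs, rfl⟩ := (h.imgS g).mp hg
  exact Subtype.ext (by rw [h.act_apply, mul_inv_eq_iff_eq_mul]; exact h.z_comm hs)

theorem eq_z_of_comm {a : A} (hc : ∀ s ∈ (h.S : Subgroup G), s * (a : G) = a * s) (ha : a ≠ 1) :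
    a = h.z := by
  by_contra hne
  have hmem : ∀ b : A, (∀ s ∈ (h.S : Subgroup G), s * (b : G) = b * s) →
      (⟨b, h.hAS b.2⟩ : (h.S : Subgroup G)) ∈ Subgroup.center (h.S : Subgroup G) :=
    fun b hb => Subgroup.mem_center_iff.mpr fun s => Subtype.ext (hb s s.2)
  have h3 : 3 ≤ Nat.card (Subgroup.center (h.S : Subgroup G)) := by
    haveI := Fintype.ofFinite (Subgroup.center (h.S : Subgroup G))
    rw [Nat.card_eq_fintype_card]
    refine Fintype.two_lt_card_iff.mpr ⟨1, ⟨_, hmem a hc⟩,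
      ⟨_, hmem h.z fun s hs => h.z_comm hs⟩, fun e => ha ?_, fun e => h.z_ne ?_, fun e => hne ?_⟩
    · exact Subtype.ext (congrArg
        (fun q : Subgroup.center (h.S : Subgroup G) => ((q : (h.S : Subgroup G)) : G)) e).symm
    · exact Subtype.ext (congrArg
        (fun q : Subgroup.center (h.S : Subgroup G) => ((q : (h.S : Subgroup G)) : G)) e).symm
    · exact Subtype.ext (congrArg
        (fun q : Subgroup.center (h.S : Subgroup G) => ((q : (h.S : Subgroup G)) : G)) e)
  exact absurd h.center_S (by omega)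

theorem act_eq_of_two {g k : A5} (hg : g ∈ fourV) (hk : k ∈ fourV) (hg1 : g ≠ 1) (hk1 : k ≠ 1)
    (hne : g ≠ k) {a : A} (ha : a ∈ h.fixA g) (ha' : a ∈ h.fixA k) : a = 1 ∨ a = h.z := by
  rw [or_iff_not_imp_left]
  intro h1
  refine h.eq_z_of_comm (fun s hs => ?_) h1
  have hall : ∀ x ∈ fourV, h.act x a = a := by
    intro x hx
    have hgk : h.act (g * k) a = a := by rw [← act_act, h.mem_fixA.mp ha', h.mem_fixA.mp ha]
    have : x = 1 ∨ x = g ∨ x = k ∨ x = g * k := by
      rw [mem_fourV] at hx hg hk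
      revert hne hg1 hk1
      rcases hx with rfl | rfl | rfl | rfl <;> rcases hg with rfl | rfl | rfl | rfl <;>
        rcases hk with rfl | rfl | rfl | rfl <;> decide +kernel
    rcases this with rfl | rfl | rfl | rfl
    exacts [h.act_one a, ha, ha', hgk]
  have h2 := h.act_apply' (h.hSN hs) a
  rw [hall _ (h.phi_mem hs)] at h2
  exact (mul_inv_eq_iff_eq_mul.mp h2.symm)

theorem z_mem_fix {g : A5} (hg : g ∈ fourV) : h.z ∈ h.fixA g := h.act_four_z hg

end Setting

end CfsgLib.EightType55
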